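import Cfsg.Agent.Lib.Chev.Order
import Cfsg.Agent.Lib.Chev.OrderData
import Cfsg.Agent.Lib.Chev.Functorial
import Cfsg.Agent.Lib.Chev.Bruhat
import Cfsg.Agent.Lib.Chev.ParabolicOrder
import Cfsg.Agent.Lib.Chev.All

/-!
The centralizer of the involution `z = h₁₁(-1)` of `G₂(F)`, `F` of odd order.

The roots `7` (short) and `11` (long) are orthogonal; `z` fixes their root groups and inverts the others.
-/

set_option autoImplicit false
set_option maxRecDepth 100000

namespace CfsgLib.Chev.G2Invol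

open Cfsg.Lie Matrix

variable {F : Type*} [Field F]

/-- The roots fixed by `z`. -/
def zRoots : List ℕ := [0, 4, 7, 11]

/-- The involution of the torus. -/
noncomputable def zI (F : Type*) [Field F] : GL chevG2.Idx F := hU chevG2 11 (-1 : F)

/-- Conjugation by `g` sends `X r u` to `X s (a * u)`. -/
def Sends (g : GL chevG2.Idx F) (r s : ℕ) (a : F) : Prop :=
  ∀ u : F, g * X chevG2 r u * g⁻¹ = X chevG2 s (a * u)

theorem nG2 : tabG2.n = 12 := by decide +kernel
theorem halfG2 : tabG2.half = 6 := by decide +kernel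
theorem lG2 : tabG2.l = 2 := by decide +kernel

theorem negG2 {r : ℕ} : tabG2.neg r = 11 - r := by
  unfold Tab.neg; rw [nG2]

theorem Sends.mul {g g' : GL chevG2.Idx F} {r s t : ℕ} {a b : F} (h1 : Sends g' r s a)
    (h2 : Sends g s t b) : Sends (g * g') r t (b * a) := fun u => by
  rw [show g * g' * X chevG2 r u * (g * g')⁻¹ = g * (g' * X chevG2 r u * g'⁻¹) * g⁻¹ by group, h1, h2,
    mul_assoc]

theorem sends_one (r : ℕ) : Sends (1 : GL chevG2.Idx F) r r 1 := fun u => by simp

theorem Sends.inv {g : GL chevG2.Idx F} {r s : ℕ} {a : F} (h1 : Sends g r s a) (ha : a ≠ 0) :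
    Sends g⁻¹ s r a⁻¹ := fun u => by
  have := h1 (a⁻¹ * u)
  rw [mul_inv_cancel_left₀ ha] at this
  rw [← this]; group

theorem Sends.unique {g : GL chevG2.Idx F} {r s : ℕ} {a b : F} (hs : s < 12) (h1 : Sends g r s a)
    (h2 : Sends g r s b) : a = b := by
  have e := (h1 1).symm.trans (h2 1)
  simp only [mul_one] at e
  have e' : X chevG2 s (a + -b) = 1 := by
    rw [← certG2.X_add (by rw [nG2]; exact hs), e, ← certG2.X_inv (by rw [nG2]; exact hs), mul_inv_cancel]
  rw [certG2.X_eq_one_iff (by rw [nG2]; exact hs)] at e'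
  linear_combination e'

/-! ### Diagonal elements -/

theorem exists_char {g : GL chevG2.Idx F} (hg : g ∈ chevG2.diagonalSubgroup F) :
    ∃ c : ℕ → F, (∀ i < tabG2.l, c i ≠ 0) ∧
      (g : Matrix chevG2.Idx chevG2.Idx F) = torus chevG2 (charOf tabG2 c) ∧
      ∀ r < 12, Sends g r r (charOf tabG2 c r) := by
  obtain ⟨c, hc, e⟩ := certG2.mem_diagonalSubgroup_iff.1 hg
  refine ⟨c, hc, e, fun r hr u => ?_⟩
  rw [mul_inv_eq_iff_eq_mul]
  refine Units.ext ?_
  rw [Units.val_mul, Units.val_mul, certG2.coe_X, certG2.coe_X, e,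
    certG2.torus_mul_x (certG2.isChar_charOf hc) (by rw [nG2]; exact hr)]

theorem diag_commute {g g' : GL chevG2.Idx F} (hg : g ∈ chevG2.diagonalSubgroup F)
    (hg' : g' ∈ chevG2.diagonalSubgroup F) : g * g' = g' * g := by
  obtain ⟨c, -, e⟩ := certG2.mem_diagonalSubgroup_iff.1 hg
  obtain ⟨d, -, e'⟩ := certG2.mem_diagonalSubgroup_iff.1 hg'
  refine Units.ext ?_
  rw [Units.val_mul, Units.val_mul, e, e', torus_mul, torus_mul]
  exact torus_congr chevG2 fun s _ => mul_comm _ _

/-- Diagonal elements with the same scalings are equal. -/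
theorem diag_ext {g g' : GL chevG2.Idx F} (hg : g ∈ chevG2.diagonalSubgroup F)
    (hg' : g' ∈ chevG2.diagonalSubgroup F)
    (h : ∀ r < 12, ∃ a, Sends g r r a ∧ Sends g' r r a) : g = g' := by
  obtain ⟨c, -, e, hc⟩ := exists_char hg
  obtain ⟨d, -, e', hd⟩ := exists_char hg'
  refine Units.ext ?_
  rw [e, e']
  refine torus_congr chevG2 fun s hs => ?_
  have hs' : s < 12 := hs.trans_eq (by decide +kernel)
  obtain ⟨a, h1, h2⟩ := h s hs'
  rw [(hc s hs').unique hs' h1, (hd s hs').unique hs' h2]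

theorem zI_mem : zI F ∈ chevG2.diagonalSubgroup F :=
  certG2.hU_mem (by decide +kernel) (neg_ne_zero.2 one_ne_zero)

theorem zI_mem_group : zI F ∈ chevG2.group F := certG2.diagonal_le_group zI_mem

theorem even_pairing : ∀ r < 12, r ∈ zRoots → Even (tabG2.pairing 11 r) := by decide +kernel

theorem odd_pairing : ∀ r < 12, r ∉ zRoots → Odd (tabG2.pairing 11 r) := by decide +kernel

/-- The scalings of `z`. -/
theorem sends_zI {r : ℕ} (hr : r < 12) :
    Sends (zI F) r r (if r ∈ zRoots then 1 else -1) := by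
  intro u
  have h11 : 11 < tabG2.n := by decide +kernel
  have hne : (-1 : F) ≠ 0 := neg_ne_zero.2 one_ne_zero
  rw [mul_inv_eq_iff_eq_mul]
  refine Units.ext ?_
  rw [Units.val_mul, Units.val_mul, certG2.coe_X, certG2.coe_X, zI, certG2.hU_root h11 hne,
    certG2.torus_mul_x (certG2.isChar_charOf fun i _ => zpow_ne_zero _ hne) (by rw [nG2]; exact hr),
    Cert.charOf_cor 11 hne]
  congr 2
  split_ifs with h
  · rw [(even_pairing r hr h).neg_one_zpow]
  · rw [(odd_pairing r hr h).neg_one_zpow]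

theorem zI_mul_self : zI F * zI F = 1 := by
  refine diag_ext (mul_mem zI_mem zI_mem) (one_mem _) fun r hr => ⟨1, ?_, sends_one r⟩
  have := (sends_zI (F := F) hr).mul (sends_zI hr)
  rwa [show (if r ∈ zRoots then (1 : F) else -1) * (if r ∈ zRoots then 1 else -1) = 1 by
    split_ifs <;> norm_num] at this

theorem zI_inv : (zI F)⁻¹ = zI F := inv_eq_of_mul_eq_one_right zI_mul_self

theorem zI_commute_X {r : ℕ} (hr : r ∈ zRoots) (u : F) : zI F * X chevG2 r u = X chevG2 r u * zI F := by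
  have h12 : ∀ r ∈ zRoots, r < 12 := by decide
  have := sends_zI (F := F) (h12 r hr) u
  rwa [if_pos hr, one_mul, mul_inv_eq_iff_eq_mul] at this

/-- A monomial element permuting the roots with the parity of `z` commutes with `z`. -/
theorem commute_zI_of_monomial {g : GL chevG2.Idx F} (hg : g ∈ chevG2.monomialSubgroup F)
    (h : ∀ s < 12, ∃ r < 12, ∃ a : F, a ≠ 0 ∧ Sends g r s a ∧ (r ∈ zRoots ↔ s ∈ zRoots)) :
    g * zI F = zI F * g := by
  have hd : g * zI F * g⁻¹ ∈ chevG2.diagonalSubgroup F :=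
    (Subgroup.mem_normalizer_iff.1 (certG2.monomial_le_normalizer_diagonal hg) _).1 zI_mem
  have key : g * zI F * g⁻¹ = zI F := by
    refine diag_ext hd zI_mem fun s hs => ?_
    obtain ⟨r, hr, a, ha, h1, hrs⟩ := h s hs
    refine ⟨if r ∈ zRoots then 1 else -1, ?_, ?_⟩
    · have := ((h1.inv ha).mul (sends_zI hr)).mul h1
      rw [show g * (zI F * g⁻¹) = g * zI F * g⁻¹ by group] at this
      rwa [show a * ((if r ∈ zRoots then (1 : F) else -1) * a⁻¹) = if r ∈ zRoots then 1 else -1 by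
        split_ifs <;> field_simp] at this
    · have := sends_zI (F := F) hs
      simpa only [hrs] using this
  rw [mul_inv_eq_iff_eq_mul] at key
  exact key

/-! ### Signs of the representatives of the Weyl group -/

/-- The sign of a word at a root. -/
noncomputable def wsgn : List ℕ → ℕ → ℤ
  | [], _ => 1
  | i :: w, r => tabG2.eta i (rword tabG2 w r) * wsgn w r

theorem wsgn_sq : ∀ (w : List ℕ) (r : ℕ), wsgn w r * wsgn w r = 1
  | [], _ => by simp [wsgn]
  | i :: w, r => by
    rw [wsgn, mul_mul_mul_comm, tabG2.eta_sq, wsgn_sq w r, one_mul]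

theorem wsgn_cast_sq (w : List ℕ) (r : ℕ) : ((wsgn w r : ℤ) : F) * (wsgn w r : F) = 1 := by
  rw [← Int.cast_mul, wsgn_sq, Int.cast_one]

theorem sends_nW : ∀ {w : List ℕ}, WordOK tabG2 w → ∀ {r : ℕ}, r < 12 →
    Sends (nW chevG2 F w) r (rword tabG2 w r) (wsgn w r : F) := by
  intro w
  induction w with
  | nil => intro _ r _ u; simp [nW, rword, wsgn]
  | cons i w ih =>
    intro hw r hr u
    have h1 := ih hw.tail hr u
    have h2 := certG2.nS_conj_X (F := F) hw.head
      (certG2.rword_lt hw.tail (by rw [nG2]; exact hr)) ((wsgn w r : F) * u)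
    rw [nW_cons, show nS chevG2 F i * nW chevG2 F w * X chevG2 r u * (nS chevG2 F i * nW chevG2 F w)⁻¹ =
      nS chevG2 F i * (nW chevG2 F w * X chevG2 r u * (nW chevG2 F w)⁻¹) * (nS chevG2 F i)⁻¹ by group, h1, h2,
      rword_cons, wsgn, Int.cast_mul, mul_assoc]

/-! ### The cells of the centralizer -/

/-- The cells: a word with the roots of its unipotent factor. -/
def cells : List (List ℕ × List ℕ) :=
  [([], []), ([0], [7]), ([1, 0, 1, 0, 1], [11]), ([1, 0, 1, 0, 1, 0], [7, 11])]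

theorem cells_stab : tabG2.stabWords zRoots (transversal levelsG2 2) = cells.map Prod.fst := by
  decide +kernel

theorem cells_list : ∀ p ∈ cells, (cellList tabG2 p.1).filter (· ∈ zRoots) = p.2 := by
  decide +kernel

theorem cells_ok : ∀ p ∈ cells, (∀ i ∈ p.1, i < 2) ∧
    ∀ s < 12, ∃ r < 12, rword tabG2 p.1 r = s ∧ (r ∈ zRoots ↔ s ∈ zRoots) := by
  decide +kernel

theorem cells_nodup : (cells.map Prod.fst).Nodup := by decide

theorem wordOK_cell {p : List ℕ × List ℕ} (hp : p ∈ cells) : WordOK tabG2 p.1 := fun i hi => by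
  rw [lG2]; exact (cells_ok p hp).1 i hi

theorem wsgn_ne (w : List ℕ) (r : ℕ) : (wsgn w r : F) ≠ 0 :=
  left_ne_zero_of_mul_eq_one (wsgn_cast_sq w r)

theorem nW_cell_commute {p : List ℕ × List ℕ} (hp : p ∈ cells) :
    nW chevG2 F p.1 * zI F = zI F * nW chevG2 F p.1 := by
  refine commute_zI_of_monomial (certG2.nW_mem_monomial (wordOK_cell hp)) fun s hs => ?_
  obtain ⟨r, hr, e, hiff⟩ := (cells_ok p hp).2 s hs
  exact ⟨r, hr, wsgn p.1 r, wsgn_ne _ _, e ▸ sends_nW (wordOK_cell hp) hr, hiff⟩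

/-! ### Unipotent elements commuting with `z` -/

/-- The unipotent part of the centralizer. -/
noncomputable def uU (F : Type*) [Field F] : Subgroup (GL chevG2.Idx F) :=
  gen chevG2 F {r | r ∈ [7, 11]}

theorem mem_uU_iff {g : GL chevG2.Idx F} :
    g ∈ uU F ↔ ∃ x y : F, g = X chevG2 7 x * X chevG2 11 y := by
  constructor
  · intro hg
    obtain ⟨t, ht⟩ := certG2.exists_prodX (F := F) [7, 11] (by decide)
      (by intro r hr; unfold posSet; rw [halfG2, nG2]
          have : ∀ r ∈ [7, 11], 6 ≤ r ∧ r < 12 := by decide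
          exact this r hr)
      (by intro r hr s hs _ q hq
          have h0 : ∀ r ∈ [7, 11], ∀ s ∈ [7, 11], tabG2.commTerms r s = [] := by decide +kernel
          rw [h0 r hr s hs] at hq; simp at hq) g hg
    exact ⟨t 7, t 11, by rw [ht]; simp [prodX]⟩
  · rintro ⟨x, y, rfl⟩
    exact mul_mem (X_mem_gen chevG2 (by simp) x) (X_mem_gen chevG2 (by simp) y)

theorem commute_seven_eleven (x y : F) : X chevG2 7 x * X chevG2 11 y = X chevG2 11 y * X chevG2 7 x := by
  have h1 := certG2.X_conj (F := F) (r := 7) (s := 11) (by decide +kernel) (by decide +kernel)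
    (by decide) (by decide +kernel) x y
  rw [show tabG2.commTerms 7 11 = [] by decide +kernel, List.map_nil, List.prod_nil, mul_one,
    ← certG2.X_inv (by decide +kernel)] at h1
  conv_lhs => rw [← h1]
  group

theorem uU_comm {a b : GL chevG2.Idx F} (ha : a ∈ uU F) (hb : b ∈ uU F) : a * b = b * a := by
  obtain ⟨x, y, rfl⟩ := mem_uU_iff.1 ha
  obtain ⟨x', y', rfl⟩ := mem_uU_iff.1 hb
  have h7 : (7 : ℕ) < tabG2.n := by decide +kernel
  have h11 : (11 : ℕ) < tabG2.n := by decide +kernel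
  calc X chevG2 7 x * X chevG2 11 y * (X chevG2 7 x' * X chevG2 11 y')
      = X chevG2 7 x * (X chevG2 11 y * X chevG2 7 x') * X chevG2 11 y' := by group
    _ = X chevG2 7 x * X chevG2 7 x' * (X chevG2 11 y * X chevG2 11 y') := by rw [← commute_seven_eleven]; group
    _ = X chevG2 7 x' * X chevG2 7 x * (X chevG2 11 y' * X chevG2 11 y) := by
      rw [certG2.X_add h7, certG2.X_add h7, certG2.X_add h11, certG2.X_add h11, add_comm x,
        add_comm y]
    _ = X chevG2 7 x' * (X chevG2 7 x * X chevG2 11 y') * X chevG2 11 y := by group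
    _ = _ := by rw [commute_seven_eleven]; group

theorem uU_le_posUnipotent : uU F ≤ chevG2.posUnipotent F := certG2.gen_pos_le fun r hr => by
  show tabG2.half ≤ r ∧ r < tabG2.n
  rw [halfG2, nG2]
  have : ∀ r ∈ [7, 11], 6 ≤ r ∧ r < 12 := by decide
  exact this r hr

theorem uU_commute_zI {v : GL chevG2.Idx F} (hv : v ∈ uU F) : v * zI F = zI F * v := by
  obtain ⟨x, y, rfl⟩ := mem_uU_iff.1 hv
  rw [mul_assoc, ← zI_commute_X (by decide), ← mul_assoc, ← zI_commute_X (by decide), mul_assoc]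

theorem X_pair_eq_one {x y : F} (h : X chevG2 7 x * X chevG2 11 y = 1) : x = 0 ∧ y = 0 := by
  have h7 : (7 : ℕ) < tabG2.n := by decide +kernel
  have h11 : (11 : ℕ) < tabG2.n := by decide +kernel
  have hx : x = 0 := by
    by_contra hne
    rw [mul_eq_one_iff_eq_inv, certG2.X_inv h11] at h
    exact absurd (certG2.root_eq_of_X_eq h7 h11 hne h) (by decide)
  refine ⟨hx, ?_⟩
  rwa [hx, certG2.X_zero h7, one_mul, certG2.X_eq_one_iff h11] at h

/-- Coordinates of a unipotent element commuting with `z` vanish off the fixed roots. -/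
theorem fixed_mem (h2 : (2 : F) ≠ 0) {L : List ℕ} (hL : L.SortedLT)
    (hpos : ∀ r ∈ L, r ∈ posSet tabG2) (hc : CommClosed tabG2 {r | r ∈ L}) {g : GL chevG2.Idx F}
    (hg : g ∈ gen chevG2 F {r | r ∈ L}) (hz : g * zI F = zI F * g) :
    g ∈ gen chevG2 F {r | r ∈ L.filter (· ∈ zRoots)} := by
  obtain ⟨t, rfl⟩ := certG2.exists_prodX L hL hpos hc g hg
  have hlt : ∀ r ∈ L, r < 12 := fun r hr => (hpos r hr).2.trans_eq nG2
  have e : ∀ M : List ℕ, (∀ r ∈ M, r < 12) → zI F * prodX chevG2 M t * (zI F)⁻¹ =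
      prodX chevG2 M fun r => (if r ∈ zRoots then 1 else -1) * t r := by
    intro M
    induction M with
    | nil => intro _; simp [prodX]
    | cons a M ih =>
      intro hM
      have h1 := ih fun r hr => hM r (List.mem_cons_of_mem _ hr)
      have h3 := sends_zI (F := F) (hM a (by simp)) (t a)
      simp only [prodX, List.map_cons, List.prod_cons] at h1 ⊢
      rw [← h1, ← h3]; group
  have h1 : zI F * prodX chevG2 L t * (zI F)⁻¹ = prodX chevG2 L t := by rw [← hz]; group
  rw [e L hlt] at h1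
  have hzero : ∀ r ∈ L, r ∉ zRoots → t r = 0 := fun r hr hn => by
    have := certG2.prodX_inj L hL hpos _ _ h1 r hr
    simp only [if_neg hn] at this
    exact (mul_eq_zero.1 (by linear_combination -this : (2 : F) * t r = 0)).resolve_left h2
  unfold prodX
  refine list_prod_mem fun x hx => ?_
  obtain ⟨r, hr, rfl⟩ := List.mem_map.1 hx
  by_cases hn : r ∈ zRoots
  · exact X_mem_gen chevG2 (show r ∈ L.filter (· ∈ zRoots) by simp [List.mem_filter, hr, hn]) _
  · rw [hzero r hr hn, certG2.X_zero (by rw [nG2]; exact hlt r hr)]; exact one_mem _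

/-! ### The centralizer -/

/-- The centralizer of `z`. -/
noncomputable def cZ (F : Type*) [Field F] : Subgroup (GL chevG2.Idx F) :=
  chevG2.group F ⊓ Subgroup.centralizer {zI F}

theorem mem_cZ {g : GL chevG2.Idx F} :
    g ∈ cZ F ↔ g ∈ chevG2.group F ∧ g * zI F = zI F * g := by
  rw [cZ, Subgroup.mem_inf, Subgroup.mem_centralizer_singleton_iff]

theorem gen_cell_le {p : List ℕ × List ℕ} (hp : p ∈ cells) :
    gen chevG2 F {r | r ∈ p.2} ≤ uU F ⊓ Cert.cellUnipotent chevG2 F (nW chevG2 F p.1) := by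
  rw [certG2.cellUnipotent_word (wordOK_cell hp)]
  have h : ∀ p ∈ cells, ∀ r ∈ p.2, r ∈ [7, 11] ∧ r ∈ cellList tabG2 p.1 := by decide +kernel
  exact le_inf (gen_mono _ fun r hr => (h p hp r hr).1) (gen_mono _ fun r hr => (h p hp r hr).2)

theorem diag_le_cZ : chevG2.diagonalSubgroup F ≤ cZ F := fun t ht =>
  mem_cZ.2 ⟨certG2.diagonal_le_group ht, diag_commute ht zI_mem⟩

theorem uU_le_cZ : uU F ≤ cZ F := fun v hv =>
  mem_cZ.2 ⟨certG2.posUnipotent_le_group (uU_le_posUnipotent hv), uU_commute_zI hv⟩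

theorem nW_mem_cZ {p : List ℕ × List ℕ} (hp : p ∈ cells) : nW chevG2 F p.1 ∈ cZ F :=
  mem_cZ.2 ⟨certG2.monomial_le_group (certG2.nW_mem_monomial (wordOK_cell hp)), nW_cell_commute hp⟩

/-- The normal form in the centralizer. -/
theorem exists_form (h2 : (2 : F) ≠ 0) {g : GL chevG2.Idx F} (hg : g ∈ cZ F) :
    ∃ p ∈ cells, ∃ v ∈ uU F, ∃ t ∈ chevG2.diagonalSubgroup F, ∃ u ∈ gen chevG2 F {r | r ∈ p.2},
      g = v * t * nW chevG2 F p.1 * u := by
  obtain ⟨hgG, hgz⟩ := mem_cZ.1 hg
  obtain ⟨b, hb, n, hn, u, hu, rfl⟩ := certG2.bruhat_exists hgG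
  obtain ⟨w, hw, t₀, ht₀, rfl⟩ := certG2.exists_transversal_monomial chkLevelsG2 hn
  have hwok := certG2.transversal_ok chkLevelsG2 le_rfl hw
  have hu' : u ∈ Cert.cellUnipotent chevG2 F (nW chevG2 F w) := by
    rw [certG2.cellUnipotent_eq (π := rword tabG2 w)
      fun r hr => ⟨certG2.rword_lt hwok hr, certG2.Maps_nW hwok hr⟩]
    rwa [certG2.cellUnipotent_eq (π := rword tabG2 w) fun r hr => ⟨certG2.rword_lt hwok hr,
      Cert.Maps_mul (certG2.Maps_nW hwok hr) (certG2.Maps_diagonal ht₀ (certG2.rword_lt hwok hr))⟩]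
      at hu
  have hb' : b * t₀ ∈ chevG2.borelSubgroup F := mul_mem hb (Subgroup.mem_sup_right ht₀)
  obtain ⟨v, hv, t, ht, ebt⟩ := certG2.mem_borel_iff.1 hb'
  rw [show b * (t₀ * nW chevG2 F w) * u = v * t * nW chevG2 F w * u by rw [← ebt]; group] at hgz hgG ⊢
  set n := nW chevG2 F w with hn'
  set z := zI F with hzdef
  have hzd : z ∈ chevG2.diagonalSubgroup F := zI_mem
  have hnm : n ∈ chevG2.monomialSubgroup F := certG2.nW_mem_monomial hwok
  have hc : z * n * z⁻¹ * n⁻¹ ∈ chevG2.diagonalSubgroup F := by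
    have := (Subgroup.mem_normalizer_iff.1 (certG2.monomial_le_normalizer_diagonal hnm) z⁻¹).1
      (inv_mem hzd)
    rw [show z * n * z⁻¹ * n⁻¹ = z * (n * z⁻¹ * n⁻¹) by group]
    exact mul_mem hzd this
  have hnz : z * v * z⁻¹ ∈ chevG2.posUnipotent F :=
    (Subgroup.mem_normalizer_iff.1 (certG2.diagonal_le_normalizer_posUnipotent hzd) v).1 hv
  have hzu : z * u * z⁻¹ ∈ Cert.cellUnipotent chevG2 F n := by
    rw [certG2.cellUnipotent_word hwok] at hu' ⊢
    exact (Subgroup.mem_normalizer_iff.1 (certG2.diagonal_le_normalizer_gen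
      (fun r hr => (Cert.mem_cellList.1 hr).1.2) hzd) u).1 hu'
  have e : (v * t) * n * u = ((z * v * z⁻¹) * (t * (z * n * z⁻¹ * n⁻¹))) * n * (z * u * z⁻¹) := by
    have h1 : z * (v * t * n * u) * z⁻¹ = v * t * n * u := by rw [← hgz]; group
    have h3 : z * t * z⁻¹ = t := by rw [diag_commute hzd ht]; group
    conv_lhs => rw [← h1]
    calc z * (v * t * n * u) * z⁻¹ = z * v * z⁻¹ * (z * t * z⁻¹) * (z * n * z⁻¹) * (z * u * z⁻¹) := by
          group
      _ = _ := by rw [h3]; group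
  obtain ⟨-, h4⟩ := certG2.bruhat_unique (mul_mem (Subgroup.mem_sup_left hv) (Subgroup.mem_sup_right ht))
    (mul_mem (Subgroup.mem_sup_left hnz) (Subgroup.mem_sup_right (mul_mem ht hc))) hnm hnm hu' hzu e
  obtain ⟨h5, h6⟩ := h4 rfl
  have h7 : (z * v * z⁻¹)⁻¹ * v ∈ chevG2.posUnipotent F ⊓ chevG2.diagonalSubgroup F := by
    refine Subgroup.mem_inf.2 ⟨mul_mem (inv_mem hnz) hv, ?_⟩
    rw [show (z * v * z⁻¹)⁻¹ * v = t * (z * n * z⁻¹ * n⁻¹) * t⁻¹ by
      rw [eq_mul_inv_iff_mul_eq, mul_assoc, h5]; group]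
    exact mul_mem (mul_mem ht hc) (inv_mem ht)
  rw [certG2.posUnipotent_inf_diagonal, Subgroup.mem_bot, inv_mul_eq_one] at h7
  have h8 : z * n * z⁻¹ * n⁻¹ = 1 := by
    have := h5
    rw [h7] at this
    exact mul_eq_left.1 (mul_left_cancel this).symm
  have hnc : n * z = z * n := by
    rw [mul_inv_eq_one, mul_inv_eq_iff_eq_mul] at h8
    exact h8.symm
  have hvU : v ∈ uU F := by
    rw [certG2.posUnipotent_eq, ← Cert.posList_set] at hv
    have := fixed_mem h2 Cert.sortedLT_posList (fun r hr => Cert.mem_posList.1 hr)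
      (by rw [Cert.posList_set]; exact certG2.commClosed_posSet) hv
      (by rw [mul_inv_eq_iff_eq_mul] at h7; exact h7.symm)
    rwa [show ((posList tabG2).filter (· ∈ zRoots)) = [7, 11] by decide +kernel] at this
  have hS : w ∈ tabG2.stabWords zRoots (transversal levelsG2 2) := by
    refine List.mem_filter.2 ⟨hw, List.all_eq_true.2 fun r hr => decide_eq_true ?_⟩
    have h12 : ∀ r ∈ zRoots, r < 12 := by decide
    have h1 := sends_nW (F := F) hwok (h12 r hr)
    have hlt : rword tabG2 w r < 12 := (certG2.rword_lt hwok (by rw [nG2]; exact h12 r hr)).trans_eq nG2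
    by_contra hn
    have h9 : Sends (z * n) r (rword tabG2 w r) ((-1) * (wsgn w r : F)) := by
      have := sends_zI (F := F) hlt
      rw [if_neg hn] at this
      exact h1.mul this
    have h10 : Sends (n * z) r (rword tabG2 w r) ((wsgn w r : F) * 1) := by
      have := sends_zI (F := F) (h12 r hr)
      rw [if_pos hr] at this
      exact this.mul h1
    rw [hnc] at h10
    have := h9.unique hlt h10
    exact mul_ne_zero h2 (wsgn_ne (F := F) w r) (by linear_combination -this)
  rw [cells_stab, List.mem_map] at hS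
  obtain ⟨p, hp, rfl⟩ := hS
  refine ⟨p, hp, v, hvU, t, ht, u, ?_, rfl⟩
  rw [certG2.cellUnipotent_word hwok] at hu'
  have := fixed_mem h2 (Cert.sortedLT_cellList p.1) (fun r hr => (Cert.mem_cellList.1 hr).1)
    (certG2.commClosed_cellList hwok) hu' (by
      rw [eq_mul_inv_iff_mul_eq] at h6
      exact h6)
  rwa [cells_list p hp] at this

/-- The order of the centralizer. -/
theorem card_cZ [Fintype F] (h2 : (2 : F) ≠ 0) :
    Nat.card (cZ F) = Fintype.card F ^ 2 * (Fintype.card F ^ 2 - 1) ^ 2 := by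
  classical
  set W := cells.toFinset with hW
  have hmem : ∀ w : W, w.1 ∈ cells := fun w => List.mem_toFinset.1 w.2
  let e : uU F × chevG2.diagonalSubgroup F × (Σ w : W, gen chevG2 F {r | r ∈ w.1.2}) → cZ F := fun p =>
    ⟨p.1.1 * p.2.1.1 * nW chevG2 F p.2.2.1.1.1 * p.2.2.2.1,
      mul_mem (mul_mem (mul_mem (uU_le_cZ p.1.2) (diag_le_cZ p.2.1.2)) (nW_mem_cZ (hmem _)))
        (uU_le_cZ (gen_cell_le (hmem _) p.2.2.2.2).1)⟩
  have hb : Function.Bijective e := by
    constructor
    · rintro ⟨⟨v, hv⟩, ⟨t, ht⟩, w, ⟨u, hu⟩⟩ ⟨⟨v', hv'⟩, ⟨t', ht'⟩, w', ⟨u', hu'⟩⟩ hpp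
      have hbv : ∀ {v t : GL chevG2.Idx F}, v ∈ uU F → t ∈ chevG2.diagonalSubgroup F →
          v * t ∈ chevG2.borelSubgroup F := fun a b =>
        mul_mem (Subgroup.mem_sup_left (uU_le_posUnipotent a)) (Subgroup.mem_sup_right b)
      obtain ⟨h1, h3⟩ := certG2.bruhat_unique (hbv hv ht) (hbv hv' ht')
        (certG2.nW_mem_monomial (wordOK_cell (hmem w))) (certG2.nW_mem_monomial (wordOK_cell (hmem w')))
        (gen_cell_le (hmem w) hu).2 (gen_cell_le (hmem w') hu').2 (congrArg Subtype.val hpp)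
      have hs : SameAct tabG2 w'.1.1 w.1.1 := by
        intro r hr
        have h4 : Maps chevG2 (nW chevG2 F w'.1.1) r (rword tabG2 w.1.1 r) := by
          have := Cert.Maps_mul (certG2.Maps_diagonal h1 hr)
            (certG2.Maps_nW (F := F) (wordOK_cell (hmem w)) hr)
          rwa [mul_inv_cancel_left] at this
        exact certG2.Maps_unique (certG2.rword_lt (wordOK_cell (hmem w')) hr)
          (certG2.rword_lt (wordOK_cell (hmem w)) hr)
          (certG2.Maps_nW (wordOK_cell (hmem w')) hr) h4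
      have hw : w = w' := by
        have key : ∀ a ∈ cells, ∀ b ∈ cells,
            (∀ r < 12, rword tabG2 b.1 r = rword tabG2 a.1 r) → a = b := by decide +kernel
        exact Subtype.ext (key _ (hmem w) _ (hmem w') fun r hr => hs r (by rw [nG2]; exact hr))
      subst hw
      obtain ⟨h5, rfl⟩ := h3 rfl
      have h6 : v'⁻¹ * v ∈ chevG2.posUnipotent F ⊓ chevG2.diagonalSubgroup F := by
        refine Subgroup.mem_inf.2
          ⟨mul_mem (inv_mem (uU_le_posUnipotent hv')) (uU_le_posUnipotent hv), ?_⟩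
        rw [show v'⁻¹ * v = t' * t⁻¹ by rw [eq_mul_inv_iff_mul_eq, mul_assoc, h5]; group]
        exact mul_mem ht' (inv_mem ht)
      rw [certG2.posUnipotent_inf_diagonal, Subgroup.mem_bot, inv_mul_eq_one] at h6
      subst h6
      obtain rfl := mul_left_cancel h5
      rfl
    · rintro ⟨g, hg⟩
      obtain ⟨p, hp, v, hv, t, ht, u, hu, rfl⟩ := exists_form h2 hg
      exact ⟨(⟨v, hv⟩, ⟨t, ht⟩, ⟨⟨p, List.mem_toFinset.2 hp⟩, ⟨u, hu⟩⟩), Subtype.ext rfl⟩
  have hgen : ∀ w : W, Nat.card (gen chevG2 F {r | r ∈ w.1.2}) = Fintype.card F ^ w.1.2.length := by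
    intro w
    have hp : ∀ p ∈ cells, ∀ r ∈ p.2, 6 ≤ r ∧ r < 12 := by decide
    have hl : ∀ p ∈ cells, p.2.SortedLT := by decide
    have h0 : ∀ p ∈ cells, ∀ r ∈ p.2, ∀ s ∈ p.2, tabG2.commTerms r s = [] := by decide +kernel
    refine certG2.card_gen _ (hl _ (hmem w)) (fun r hr => ?_) fun r hr s hs _ q hq => ?_
    · show tabG2.half ≤ r ∧ r < tabG2.n
      rw [halfG2, nG2]; exact hp _ (hmem w) r hr
    · rw [h0 _ (hmem w) r hr s hs] at hq; simp at hq
  have hu : Nat.card (uU F) = Fintype.card F ^ 2 := hgen ⟨([1, 0, 1, 0, 1, 0], [7, 11]),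
    List.mem_toFinset.2 (by decide)⟩
  rw [← Nat.card_eq_of_bijective e hb, Nat.card_prod, Nat.card_prod, Nat.card_sigma, hu,
    card_diagonalG2, Finset.sum_congr rfl (fun w _ => hgen w),
    Finset.sum_coe_sort W (fun p => Fintype.card F ^ p.2.length), hW,
    List.sum_toFinset _ (by decide)]
  obtain ⟨k, hk⟩ := Nat.exists_eq_add_of_le (Fintype.card_pos : 0 < Fintype.card F)
  simp only [cells, List.map_cons, List.map_nil, List.sum_cons, List.sum_nil, List.length_cons,
    List.length_nil]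
  rw [hk, show Nat.succ 0 + k - 1 = k by omega,
    show (Nat.succ 0 + k) ^ 2 - 1 = k * (k + 2) from Nat.sub_eq_of_eq_add (by ring)]
  ring

end CfsgLib.Chev.G2Invol
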