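import Cfsg.Agent.Lib.Chev.G2Invol.Sl2
import Cfsg.Agent.Lib.Chev.GTorus.Small

/-!
All involutions of `G₂(F)`, `F` of odd order, are conjugate to `z`.
-/

set_option autoImplicit false
set_option maxRecDepth 100000

namespace CfsgLib.Chev.G2Invol

open Cfsg.Lie Matrix
open scoped MatrixGroups

variable {F : Type*} [Field F]

/-- Conjugate to `z` in the group. -/
def ConjZ (s : GL chevG2.Idx F) : Prop := ∃ g ∈ chevG2.group F, g * s * g⁻¹ = zI F

theorem ConjZ.of_conj {s x : GL chevG2.Idx F} (hx : x ∈ chevG2.group F)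
    (h : ConjZ (x * s * x⁻¹)) : ConjZ s := by
  obtain ⟨g, hg, e⟩ := h
  exact ⟨g * x, mul_mem hg hx, by rw [← e]; group⟩

theorem Sends.conj_scale {g t : GL chevG2.Idx F} {r s : ℕ} {a x : F} (ha : a ≠ 0)
    (h1 : Sends g r s a) (h2 : Sends t r r x) : Sends (g * t * g⁻¹) s s x := by
  have := ((h1.inv ha).mul h2).mul h1
  rw [show g * (t * g⁻¹) = g * t * g⁻¹ by group] at this
  rwa [show a * (x * a⁻¹) = x by field_simp] at this

theorem sends_X_pair {r s : ℕ} {x : F} (h : ∀ u, X chevG2 r x * X chevG2 s u = X chevG2 s u * X chevG2 r x) :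
    Sends (X chevG2 r x) s s 1 := fun u => by rw [h, mul_inv_cancel_right, one_mul]

theorem lt_n {r : ℕ} (h : r < 12) : r < tabG2.n := h.trans_eq nG2.symm

/-- An element of `H` in the unipotent group is trivial. -/
theorem eq_one_of_mem {g : GL chevG2.Idx F} (h1 : g ∈ uU F) (h2 : g ∈ chevG2.diagonalSubgroup F) :
    g = 1 := by
  have : g ∈ chevG2.posUnipotent F ⊓ chevG2.diagonalSubgroup F := ⟨uU_le_posUnipotent h1, h2⟩
  rwa [certG2.posUnipotent_inf_diagonal, Subgroup.mem_bot] at this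

theorem X_mem_uU {b : ℕ} (hb : b ∈ [7, 11]) (y : F) : X chevG2 b y ∈ uU F :=
  X_mem_gen chevG2 hb y

/-- Removing a root factor fixed by the element. -/
theorem absorb (h2 : (2 : F) ≠ 0) {T : GL chevG2.Idx F} {b : ℕ} (hb : b < 12) {β y : F}
    (hβ : β ≠ 0) (hT : Sends T b b β) (hsq : T * X chevG2 b y * (T * X chevG2 b y) = 1)
    (htriv : ∀ c : F, T * T = X chevG2 b c → c = 0) :
    T * T = 1 ∧ ∃ x ∈ chevG2.group F, x * (T * X chevG2 b y) * x⁻¹ = T := by
  have hbn := lt_n hb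
  have h1 : T⁻¹ * X chevG2 b y * T = X chevG2 b (β⁻¹ * y) := by
    have := hT.inv hβ y
    rwa [_root_.inv_inv] at this
  have h3 : T * T * X chevG2 b (β⁻¹ * y + y) = 1 := by
    rw [← certG2.X_add hbn, ← h1, ← hsq]; group
  have hzero : β⁻¹ * y + y = 0 := by
    have := htriv _ (by rw [← certG2.X_inv hbn]; exact eq_inv_of_mul_eq_one_left h3)
    linear_combination -this
  rw [hzero, certG2.X_zero hbn, mul_one] at h3
  refine ⟨h3, ?_⟩
  have hββ : β * β = 1 := by
    have := hT.mul hT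
    rw [h3] at this
    exact ((sends_one b).unique hb this).symm
  rcases mul_self_eq_one_iff.1 hββ with rfl | rfl
  · have hy : y = 0 := by
      rw [inv_one, one_mul] at hzero
      exact (mul_eq_zero.1 (by linear_combination hzero : (2 : F) * y = 0)).resolve_left h2
    exact ⟨1, one_mem _, by simp [hy, certG2.X_zero hbn]⟩
  · refine ⟨X chevG2 b (y / 2), certG2.X_mem_group hbn _, ?_⟩
    have h4 : T⁻¹ * X chevG2 b (y / 2) * T = X chevG2 b (-(y / 2)) := by
      have := hT.inv hβ (y / 2)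
      rw [_root_.inv_inv] at this
      rw [this]; congr 1; rw [inv_neg, inv_one, neg_one_mul]
    calc X chevG2 b (y / 2) * (T * X chevG2 b y) * (X chevG2 b (y / 2))⁻¹
        = T * ((T⁻¹ * X chevG2 b (y / 2) * T) * X chevG2 b y * X chevG2 b (-(y / 2))) := by
          rw [← certG2.X_inv hbn]; group
      _ = T := by
          rw [h4, certG2.X_add hbn, certG2.X_add hbn,
            show -(y / 2) + y + -(y / 2) = 0 by field_simp; ring, certG2.X_zero hbn, mul_one]

/-! ### Diagonal involutions -/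

theorem lin_data : ∀ r < 12, ∀ i < 2, tabG2.car i r =
    ([(-3, -2), (-3, -1), (-2, -1), (-1, -1), (-1, 0), (0, -1), (0, 1), (1, 0), (1, 1), (2, 1), (3, 1),
      (3, 2)].getD r ((0 : ℤ), (0 : ℤ))).1 * tabG2.car i 7 +
    ([(-3, -2), (-3, -1), (-2, -1), (-1, -1), (-1, 0), (0, -1), (0, 1), (1, 0), (1, 1), (2, 1), (3, 1),
      (3, 2)].getD r ((0 : ℤ), (0 : ℤ))).2 * tabG2.car i 6 := by
  decide +kernel

theorem diag_ext_two {g g' : GL chevG2.Idx F} (hg : g ∈ chevG2.diagonalSubgroup F)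
    (hg' : g' ∈ chevG2.diagonalSubgroup F) {a b : F} (h7 : Sends g 7 7 a) (h7' : Sends g' 7 7 a)
    (h6 : Sends g 6 6 b) (h6' : Sends g' 6 6 b) : g = g' := by
  obtain ⟨c, hc, -, hs⟩ := exists_char hg
  obtain ⟨d, hd, -, hs'⟩ := exists_char hg'
  have e7 : charOf tabG2 c 7 = charOf tabG2 d 7 :=
    ((hs 7 (by decide)).unique (by decide) h7).trans ((hs' 7 (by decide)).unique (by decide) h7').symm
  have e6 : charOf tabG2 c 6 = charOf tabG2 d 6 :=
    ((hs 6 (by decide)).unique (by decide) h6).trans ((hs' 6 (by decide)).unique (by decide) h6').symm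
  refine diag_ext hg hg' fun r hr => ⟨_, hs r hr, ?_⟩
  have key : ∀ e : ℕ → F, (∀ i < tabG2.l, e i ≠ 0) → ∀ x y : ℤ,
      (∀ i < tabG2.l, tabG2.car i r = x * tabG2.car i 7 + y * tabG2.car i 6) →
      charOf tabG2 e r = charOf tabG2 e 7 ^ x * charOf tabG2 e 6 ^ y := by
    intro e he x y hxy
    simp only [charOf, ← Finset.prod_zpow, ← Finset.prod_mul_distrib]
    refine Finset.prod_congr rfl fun i hi => ?_
    have hi' := Finset.mem_range.1 hi
    rw [← _root_.zpow_mul, ← _root_.zpow_mul, ← zpow_add₀ (he i hi'), hxy i hi']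
    congr 1; ring
  rw [key c hc _ _ (fun i hi => lin_data r hr i (hi.trans_eq lG2)), e7, e6,
    ← key d hd _ _ (fun i hi => lin_data r hr i (hi.trans_eq lG2))]
  exact hs' r hr

theorem settle_diag {t : GL chevG2.Idx F} (ht : t ∈ chevG2.diagonalSubgroup F) (hsq : t * t = 1)
    (h1 : t ≠ 1) : ConjZ t := by
  obtain ⟨c, -, -, hs⟩ := exists_char ht
  have hv : ∀ r < 12, charOf tabG2 c r = 1 ∨ charOf tabG2 c r = -1 := fun r hr =>
    mul_self_eq_one_iff.1 (by
      have := (hs r hr).mul (hs r hr)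
      rw [hsq] at this
      exact ((sends_one r).unique hr this).symm)
  have key : ∀ v : List ℕ, (∀ i ∈ v, i < 2) → ∀ r7 < 12, ∀ r6 < 12, rword tabG2 v r7 = 7 →
      rword tabG2 v r6 = 6 → charOf tabG2 c 7 = (if r7 ∈ zRoots then 1 else -1) →
      charOf tabG2 c 6 = (if r6 ∈ zRoots then 1 else -1) → ConjZ t := by
    intro v hv r7 h7 r6 h6 e7 e6 a7 a6
    have hok : WordOK tabG2 v := fun i hi => (hv i hi).trans_eq lG2.symm
    have hn := certG2.nW_mem_monomial (F := F) hok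
    have et : nW chevG2 F v * zI F * (nW chevG2 F v)⁻¹ = t := by
      refine diag_ext_two ?_ ht ?_ (hs 7 (by decide)) ?_ (hs 6 (by decide))
      · exact (Subgroup.mem_normalizer_iff.1 (certG2.monomial_le_normalizer_diagonal hn) _).1 zI_mem
      · rw [a7]; exact Sends.conj_scale (wsgn_ne _ _) (e7 ▸ sends_nW hok h7) (sends_zI h7)
      · rw [a6]; exact Sends.conj_scale (wsgn_ne _ _) (e6 ▸ sends_nW hok h6) (sends_zI h6)
    exact ⟨(nW chevG2 F v)⁻¹, inv_mem (certG2.monomial_le_group hn), by rw [← et]; group⟩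
  rcases hv 7 (by decide) with e7 | e7 <;> rcases hv 6 (by decide) with e6 | e6
  · exact absurd (diag_ext_two ht (one_mem _) (hs 7 (by decide)) (e7 ▸ sends_one 7) (hs 6 (by decide))
      (e6 ▸ sends_one 6)) h1
  · exact key [] (by simp) 7 (by decide) 6 (by decide) rfl rfl
      (by rw [e7, if_pos (by decide)]) (by rw [e6, if_neg (by decide)])
  · exact key [0, 1] (by decide) 3 (by decide) 11 (by decide) (by decide +kernel) (by decide +kernel)
      (by rw [e7, if_neg (by decide)]) (by rw [e6, if_pos (by decide)])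
  · exact key [1] (by decide) 8 (by decide) 5 (by decide) (by decide +kernel) (by decide +kernel)
      (by rw [e7, if_neg (by decide)]) (by rw [e6, if_neg (by decide)])

/-- The first cell. -/
theorem settle_borel (h2 : (2 : F) ≠ 0) {v t : GL chevG2.Idx F} (hv : v ∈ uU F)
    (ht : t ∈ chevG2.diagonalSubgroup F) (hsq : v * t * (v * t) = 1) (h1 : v * t ≠ 1) :
    ConjZ (v * t) := by
  have hvG := certG2.posUnipotent_le_group (uU_le_posUnipotent hv)
  refine ConjZ.of_conj (x := v⁻¹) (inv_mem hvG) ?_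
  rw [show v⁻¹ * (v * t) * v⁻¹⁻¹ = t * v by group]
  have hsq' : t * v * (t * v) = 1 := by
    have : v * (t * v * (t * v)) * v⁻¹ = v * 1 * v⁻¹ := by rw [mul_one, mul_inv_cancel, ← hsq]; group
    exact mul_left_cancel (mul_right_cancel this)
  have hne : t * v ≠ 1 := fun e => h1 (mul_eq_one_comm.1 e)
  obtain ⟨x, y, rfl⟩ := mem_uU_iff.1 hv
  rw [← mul_assoc t] at hsq' hne ⊢
  obtain ⟨c, hc, -, hs⟩ := exists_char ht
  have hc' : ∀ r < 12, charOf tabG2 c r ≠ 0 := fun r _ => Cert.charOf_ne_zero hc r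
  have hT : Sends (t * X chevG2 7 x) 11 11 (charOf tabG2 c 11 * 1) :=
    (sends_X_pair fun u => commute_seven_eleven x u).mul (hs 11 (by decide))
  have htx : t * X chevG2 7 x * (t * X chevG2 7 x) =
      t * t * X chevG2 7 ((charOf tabG2 c 7)⁻¹ * x + x) := by
    have := (hs 7 (by decide)).inv (hc' 7 (by decide)) x
    rw [_root_.inv_inv] at this
    rw [← certG2.X_add (lt_n (by decide)), ← this]; group
  obtain ⟨hTT, g, hg, e⟩ := absorb h2 (by decide) (mul_ne_zero (hc' 11 (by decide)) one_ne_zero) hT hsq'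
    fun d hd => by
      rw [htx] at hd
      set w := (charOf tabG2 c 7)⁻¹ * x + x
      have h := eq_one_of_mem (g := t * t)
        (by rw [eq_mul_inv_of_mul_eq hd]
            exact mul_mem (X_mem_uU (by simp) _) (inv_mem (X_mem_uU (by simp) _))) (mul_mem ht ht)
      rw [h, one_mul] at hd
      exact neg_eq_zero.1 (X_pair_eq_one (x := w) (y := -d) (by
        rw [hd, certG2.X_add (lt_n (by decide)), add_neg_cancel, certG2.X_zero (lt_n (by decide))])).2
  refine ConjZ.of_conj hg ?_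
  rw [e]
  have hne' : t * X chevG2 7 x ≠ 1 := fun h0 => hne (by
    have : g * (t * X chevG2 7 x * X chevG2 11 y) * g⁻¹ = 1 := e.trans h0
    rwa [conj_eq_one_iff] at this)
  obtain ⟨htt, g', hg', e'⟩ := absorb h2 (by decide) (hc' 7 (by decide)) (hs 7 (by decide)) hTT
    fun d hd => by
      have h := eq_one_of_mem (g := t * t) (by rw [hd]; exact X_mem_uU (by simp) _) (mul_mem ht ht)
      rw [h, eq_comm, certG2.X_eq_one_iff (lt_n (by decide))] at hd
      exact hd
  refine ConjZ.of_conj hg' ?_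
  rw [e']
  refine settle_diag ht htt fun h0 => hne' ?_
  have : g' * (t * X chevG2 7 x) * g'⁻¹ = 1 := e'.trans h0
  rwa [conj_eq_one_iff] at this

/-- The cells fix the root if the element does. -/
theorem cell_fix {p : List ℕ × List ℕ} (hp : p ∈ cells) {v t u : GL chevG2.Idx F} (hv : v ∈ uU F)
    (ht : t ∈ chevG2.diagonalSubgroup F) (hu : u ∈ uU F) {a : ℕ} (ha : a ∈ [7, 11]) {c : F}
    (h : Sends (v * t * nW chevG2 F p.1 * u) a a c) : rword tabG2 p.1 a = a := by
  have ha' := pair_lt ha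
  obtain ⟨d, hd, -, hs⟩ := exists_char ht
  have hok := wordOK_cell hp
  have hlt : rword tabG2 p.1 a < 12 := (certG2.rword_lt hok (lt_n ha')).trans_eq nG2
  have h1 : (t * nW chevG2 F p.1) * X chevG2 a 1 * (t * nW chevG2 F p.1)⁻¹ = X chevG2 a (c * 1) := by
    have hu1 := uU_comm hu (X_mem_uU ha (1 : F))
    have hv1 := uU_comm hv (X_mem_uU ha (c * 1))
    have h' := h 1
    calc (t * nW chevG2 F p.1) * X chevG2 a 1 * (t * nW chevG2 F p.1)⁻¹
        = v⁻¹ * ((v * t * nW chevG2 F p.1) * (X chevG2 a 1 * u) * u⁻¹ * (v * t * nW chevG2 F p.1)⁻¹) * v := by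
          group
      _ = v⁻¹ * ((v * t * nW chevG2 F p.1 * u) * X chevG2 a 1 * (v * t * nW chevG2 F p.1 * u)⁻¹) * v := by
          rw [← hu1]; group
      _ = _ := by rw [h', mul_assoc, ← hv1]; group
  rw [((sends_nW hok ha').mul (hs _ hlt)) 1] at h1
  exact certG2.root_eq_of_X_eq (lt_n hlt) (lt_n ha')
    (mul_ne_zero (mul_ne_zero (Cert.charOf_ne_zero hd _) (wsgn_ne _ _)) one_ne_zero) h1

theorem cells_both : ∀ p ∈ cells, rword tabG2 p.1 7 = 7 → rword tabG2 p.1 11 = 11 → p = ([], []) := by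
  decide +kernel

/-- An involution of the centralizer normalizing both root groups. -/
theorem settle_fix (h2 : (2 : F) ≠ 0) {s : GL chevG2.Idx F} (hs : s ∈ cZ F) (hsq : s * s = 1)
    (h1 : s ≠ 1) {c c' : F} (ha : Sends s 7 7 c) (hb : Sends s 11 11 c') : ConjZ s := by
  obtain ⟨p, hp, v, hv, t, ht, u, hu, rfl⟩ := exists_form h2 hs
  have hu' := (gen_cell_le hp hu).1
  obtain rfl := cells_both p hp (cell_fix hp hv ht hu' (by simp) ha) (cell_fix hp hv ht hu' (by simp) hb)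
  have : u = 1 := by
    rwa [show gen chevG2 F {r | r ∈ ([] : List ℕ)} = ⊥ from Cert.gen_nil, Subgroup.mem_bot] at hu
  subst this
  simp only [nW, List.map_nil, List.prod_nil, mul_one] at hsq h1 ⊢
  exact settle_borel h2 hv ht hsq h1

/-! ### Splitting at a pair -/

/-- Conjugation by `!![0, 1; μ, 0]`. -/
noncomputable def sig {μ : F} (hμ : μ ≠ 0) : SL(2, F) →* SL(2, F) where
  toFun g := ⟨!![g.1 1 1, g.1 1 0 / μ; μ * g.1 0 1, g.1 0 0], by
    have := SL2Pair.det_eq g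
    rw [Matrix.det_fin_two_of]
    field_simp
    linear_combination this⟩
  map_one' := Subtype.ext (by ext i j; fin_cases i <;> fin_cases j <;> simp)
  map_mul' g k := Subtype.ext (by
    show !![(g * k).1 1 1, (g * k).1 1 0 / μ; μ * (g * k).1 0 1, (g * k).1 0 0] =
      !![g.1 1 1, g.1 1 0 / μ; μ * g.1 0 1, g.1 0 0] * !![k.1 1 1, k.1 1 0 / μ; μ * k.1 0 1, k.1 0 0]
    rw [Matrix.SpecialLinearGroup.coe_mul]
    ext i j
    fin_cases i <;> fin_cases j <;> simp [Matrix.mul_apply, Fin.sum_univ_two] <;> field_simp <;> ring)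

theorem sig_val {μ : F} (hμ : μ ≠ 0) (g : SL(2, F)) :
    (sig hμ g).1 = !![g.1 1 1, g.1 1 0 / μ; μ * g.1 0 1, g.1 0 0] := rfl

theorem conj_phi {T : GL chevG2.Idx F} {a : ℕ} (ha : a < 12) {μ : F} (hμ : μ ≠ 0)
    (h1 : Sends T a (11 - a) μ) (h2 : Sends T (11 - a) a μ⁻¹) (k : SL(2, F)) :
    T * phi a k * T⁻¹ = phi a (sig hμ k) := by
  have : (MulAut.conj T).toMonoidHom.comp (phi a) = (phi a).comp (sig hμ) := by
    refine hom_ext (fun t => ?_) (fun t => ?_)
    · show T * phi a (eU t) * T⁻¹ = phi a (sig hμ (eU t))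
      rw [phi_eU ha, h1 t, show sig hμ (eU t) = eL (μ * t) from Subtype.ext (by
        rw [sig_val, eL_val, eU_val]; simp), phi_eL ha]
    · show T * phi a (eL t) * T⁻¹ = phi a (sig hμ (eL t))
      rw [phi_eL ha, h2 t, show sig hμ (eL t) = eU (μ⁻¹ * t) from Subtype.ext (by
        rw [sig_val, eL_val, eU_val]; simp [div_eq_inv_mul]), phi_eU ha]
  exact DFunLike.congr_fun this k

theorem swap_inv {T : GL chevG2.Idx F} {r s : ℕ} (hr : r < 12) (hsq : T * T = 1) {μ ν : F}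
    (h1 : Sends T r s μ) (h2 : Sends T s r ν) : ν = μ⁻¹ := by
  have := h1.mul h2
  rw [hsq] at this
  exact eq_inv_of_mul_eq_one_left ((sends_one r).unique hr this).symm

/-- A square parameter: some conjugate normalizes the root group. -/
theorem split (h2 : (2 : F) ≠ 0) {T : GL chevG2.Idx F} {a : ℕ} (ha : a ∈ [7, 11]) {μ m : F}
    (hm : m ≠ 0) (hμ : μ = m * m) (h1 : Sends T a (11 - a) μ) (h1' : Sends T (11 - a) a μ⁻¹) :
    ∃ x, x ∈ cZ F ∧ x ∈ (phi (F := F) a).range ∧ Sends (x * T * x⁻¹) a a (-1) := by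
  have ha' := pair_lt ha
  have hμ0 : μ ≠ 0 := by rw [hμ]; exact mul_ne_zero hm hm
  let g : SL(2, F) := ⟨!![-m, -1; 1 / 2, -1 / (2 * m)], by
    rw [Matrix.det_fin_two_of]; field_simp; ring⟩
  refine ⟨phi a g, phi_mem_cZ ha g, ⟨g, rfl⟩, fun t => ?_⟩
  have hgv : g.1 = !![-m, -1; 1 / 2, -1 / (2 * m)] := rfl
  have hgi : (g⁻¹).1 = !![-1 / (2 * m), 1; -(1 / 2), -m] := by
    rw [Matrix.SpecialLinearGroup.coe_inv, hgv, Matrix.adjugate_fin_two_of]
    simp
  have hk : sig hμ0 (g⁻¹ * eU t * g) = g⁻¹ * eU (-t) * g := by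
    refine Subtype.ext ?_
    rw [sig_val, Matrix.SpecialLinearGroup.coe_mul, Matrix.SpecialLinearGroup.coe_mul,
      Matrix.SpecialLinearGroup.coe_mul, Matrix.SpecialLinearGroup.coe_mul, eU_val, eU_val, hgi, hgv,
      Matrix.mul_fin_two, Matrix.mul_fin_two, Matrix.mul_fin_two, Matrix.mul_fin_two, hμ]
    ext i j
    fin_cases i <;> fin_cases j <;> simp <;> field_simp <;> ring
  calc phi a g * T * (phi a g)⁻¹ * X chevG2 a t * (phi a g * T * (phi a g)⁻¹)⁻¹
      = phi a g * (T * phi a (g⁻¹ * eU t * g) * T⁻¹) * (phi a g)⁻¹ := by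
        simp only [map_mul, map_inv, phi_eU ha']; group
    _ = _ := by
        rw [conj_phi ha' hμ0 h1 h1', hk]
        simp only [map_mul, map_inv, phi_eU ha', neg_one_mul]; group

/-! ### The reflection cells -/

/-- `(p, a, b, r, r')`: the cell swaps `±a`, fixes `b`, swaps `r` and `r'`, and `a = r - r'`. -/
theorem refl_data : ∀ q ∈ [((([0], [7]) : List ℕ × List ℕ), 7, 11, 9, 8),
      (([1, 0, 1, 0, 1], [11]), 11, 7, 10, 5)],
    let p : List ℕ × List ℕ := q.1
    let a := q.2.1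
    let b := q.2.2.1
    let r := q.2.2.2.1
    let r' := q.2.2.2.2
    p ∈ cells ∧ p.2 = [a] ∧ a ∈ [7, 11] ∧ b ∈ [7, 11] ∧ r < 12 ∧ r' < 12 ∧ a ≠ b ∧
      rword tabG2 p.1 a = 11 - a ∧ rword tabG2 p.1 (11 - a) = a ∧ rword tabG2 p.1 b = b ∧
      rword tabG2 p.1 r = r' ∧ rword tabG2 p.1 r' = r ∧
      (∀ i < 2, tabG2.car i a = tabG2.car i r - tabG2.car i r') ∧
      wsgn p.1 a * (wsgn p.1 r * wsgn p.1 r') = 1 ∧
      (∀ i < 2, 6 ≤ rword tabG2 (p.1 ++ p.1) (tabG2.simple i)) := by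
  decide +kernel

theorem nW_sq_mem {w : List ℕ} (hok : WordOK tabG2 w)
    (h : ∀ i < 2, 6 ≤ rword tabG2 (w ++ w) (tabG2.simple i)) :
    nW chevG2 F w * nW chevG2 F w ∈ chevG2.diagonalSubgroup F := by
  rw [← nW_append]
  refine certG2.nW_mem_diagonal (fun i hi => (List.mem_append.1 hi).elim (hok i) (hok i)) fun i hi => ?_
  rw [halfG2]; exact h i (hi.trans_eq lG2)

theorem sq_mem_diag {t : GL chevG2.Idx F} (ht : t ∈ chevG2.diagonalSubgroup F) {w : List ℕ}
    (hok : WordOK tabG2 w) (h : ∀ i < 2, 6 ≤ rword tabG2 (w ++ w) (tabG2.simple i)) :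
    t * nW chevG2 F w * (t * nW chevG2 F w) ∈ chevG2.diagonalSubgroup F := by
  have hn := (Subgroup.mem_normalizer_iff.1
    (certG2.monomial_le_normalizer_diagonal (certG2.nW_mem_monomial (F := F) hok)) t).1 ht
  rw [show t * nW chevG2 F w * (t * nW chevG2 F w) =
    t * (nW chevG2 F w * t * (nW chevG2 F w)⁻¹) * (nW chevG2 F w * nW chevG2 F w) by group]
  exact mul_mem (mul_mem ht hn) (nW_sq_mem hok h)

/-- Moving a cell element to the form `t n b`. -/
theorem cell_conj {p : List ℕ × List ℕ} (hp : p ∈ cells) {v t u : GL chevG2.Idx F} (hv : v ∈ uU F)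
    (hu : u ∈ gen chevG2 F {r | r ∈ p.2}) (hsq : v * t * nW chevG2 F p.1 * u * (v * t * nW chevG2 F p.1 * u) = 1)
    (h1 : v * t * nW chevG2 F p.1 * u ≠ 1)
    (h : ∀ b ∈ uU F, t * nW chevG2 F p.1 * b * (t * nW chevG2 F p.1 * b) = 1 →
      t * nW chevG2 F p.1 * b ≠ 1 → ConjZ (t * nW chevG2 F p.1 * b)) :
    ConjZ (v * t * nW chevG2 F p.1 * u) := by
  refine ConjZ.of_conj (x := v⁻¹) (inv_mem (certG2.posUnipotent_le_group (uU_le_posUnipotent hv))) ?_
  have e : v⁻¹ * (v * t * nW chevG2 F p.1 * u) * v⁻¹⁻¹ = t * nW chevG2 F p.1 * (u * v) := by group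
  rw [e]
  refine h _ (mul_mem (gen_cell_le hp hu).1 hv) ?_ fun h0 => h1 ?_
  · rw [← e, show v⁻¹ * (v * t * nW chevG2 F p.1 * u) * v⁻¹⁻¹ * (v⁻¹ * (v * t * nW chevG2 F p.1 * u) * v⁻¹⁻¹)
      = v⁻¹ * (v * t * nW chevG2 F p.1 * u * (v * t * nW chevG2 F p.1 * u)) * v by group, hsq]
    group
  · rwa [← e, conj_eq_one_iff] at h0

theorem settle_refl (h2 : (2 : F) ≠ 0) {q : (List ℕ × List ℕ) × ℕ × ℕ × ℕ × ℕ}
    (hq : q ∈ [((([0], [7]) : List ℕ × List ℕ), 7, 11, 9, 8), (([1, 0, 1, 0, 1], [11]), 11, 7, 10, 5)])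
    {t b' : GL chevG2.Idx F} (ht : t ∈ chevG2.diagonalSubgroup F) (hb' : b' ∈ uU F)
    (hsq : t * nW chevG2 F q.1.1 * b' * (t * nW chevG2 F q.1.1 * b') = 1)
    (h1 : t * nW chevG2 F q.1.1 * b' ≠ 1) : ConjZ (t * nW chevG2 F q.1.1 * b') := by
  obtain ⟨hp, -, ha, hb, hr, hr', hab, wa, wna, wb, wr, wr', hlin, hsgn, hsq2⟩ := refl_data q hq
  obtain ⟨p, a, b, r, r'⟩ := q
  dsimp only at hp ha hb hr hr' hab wa wna wb wr wr' hlin hsgn hsq2 hsq h1 ⊢
  have ha' := pair_lt ha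
  have hb2 := pair_lt hb
  obtain ⟨c, hc, -, hs⟩ := exists_char ht
  have hok := wordOK_cell hp
  have hS : ∀ x y, x < 12 → y < 12 → rword tabG2 p.1 x = y →
      Sends (t * nW chevG2 F p.1) x y (charOf tabG2 c y * (wsgn p.1 x : F)) := fun x y hx hy e =>
    (e ▸ sends_nW hok hx).mul (hs y hy)
  set T := t * nW chevG2 F p.1 with hTdef
  have hne : ∀ x y, charOf tabG2 c y * (wsgn p.1 x : F) ≠ 0 := fun x y =>
    mul_ne_zero (Cert.charOf_ne_zero hc _) (wsgn_ne _ _)
  have hTT : T * T ∈ chevG2.diagonalSubgroup F := sq_mem_diag ht hok hsq2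
  obtain ⟨x, y, exy⟩ : ∃ x y : F, b' = X chevG2 a x * X chevG2 b y := by
    obtain ⟨x, y, e⟩ := mem_uU_iff.1 hb'
    have hor : (a = 7 ∧ b = 11) ∨ (a = 11 ∧ b = 7) := by
      fin_cases ha <;> fin_cases hb <;> simp_all
    rcases hor with ⟨rfl, rfl⟩ | ⟨rfl, rfl⟩
    · exact ⟨x, y, e⟩
    · exact ⟨y, x, by rw [e, commute_seven_eleven]⟩
  subst exy
  have hx : x = 0 := by
    by_contra hx0
    have e1 : T * (X chevG2 a x * X chevG2 b y) * T⁻¹ =
        (X chevG2 a x * X chevG2 b y)⁻¹ * (T * T)⁻¹ := by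
      have h3 : T * (X chevG2 a x * X chevG2 b y) * T =
          (X chevG2 a x * X chevG2 b y)⁻¹ := by
        refine eq_inv_of_mul_eq_one_left ?_
        rw [← hsq]; group
      rw [← h3]; group
    have hB : T * (X chevG2 a x * X chevG2 b y) * T⁻¹ ∈ chevG2.borelSubgroup F := by
      rw [e1]
      exact mul_mem (inv_mem (Subgroup.mem_sup_left (uU_le_posUnipotent hb')))
        (inv_mem (Subgroup.mem_sup_right hTT))
    rw [show T * (X chevG2 a x * X chevG2 b y) * T⁻¹ =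
      (T * X chevG2 a x * T⁻¹) * (T * X chevG2 b y * T⁻¹) by group,
      hS a (11 - a) ha' (by omega) wa, hS b b hb2 hb2 wb] at hB
    have h6 : ∀ a ∈ [7, 11], 6 ≤ a ∧ 11 - a < 6 := by decide
    have hBb : X chevG2 b (charOf tabG2 c b * (wsgn p.1 b : F) * y) ∈ chevG2.borelSubgroup F :=
      certG2.X_mem_borel (by rw [halfG2]; exact (h6 b hb).1) (lt_n hb2) _
    have hneg : X chevG2 (11 - a) (charOf tabG2 c (11 - a) * (wsgn p.1 a : F) * x) ∈
        chevG2.borelSubgroup F ⊓ chevG2.negUnipotent F := by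
      refine Subgroup.mem_inf.2 ⟨(Subgroup.mul_mem_cancel_right _ hBb).1 hB, ?_⟩
      rw [certG2.negUnipotent_eq]
      exact X_mem_gen chevG2 (S := {r | r < tabG2.half}) (show 11 - a < tabG2.half by rw [halfG2]; exact (h6 a ha).2) _
    rw [certG2.borel_inf_negUnipotent, Subgroup.mem_bot, certG2.X_eq_one_iff (lt_n (by omega))] at hneg
    exact mul_ne_zero (hne _ _) hx0 hneg
  subst hx
  rw [certG2.X_zero (lt_n ha'), one_mul] at hsq h1 ⊢
  obtain ⟨hT1, g, hg, e⟩ := absorb h2 hb2 (hne _ _) (hS b b hb2 hb2 wb) hsq fun d hd => by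
    have := eq_one_of_mem (g := T * T) (by rw [hd]; exact X_mem_uU hb _) hTT
    rw [this, eq_comm, certG2.X_eq_one_iff (lt_n hb2)] at hd
    exact hd
  refine ConjZ.of_conj hg ?_
  rw [e]
  have hT0 : T ≠ 1 := fun h0 => h1 (by
    rw [h0] at e
    rw [conj_eq_one_iff] at e
    rwa [h0])
  have hTc : T ∈ cZ F := mul_mem (diag_le_cZ ht) (nW_mem_cZ hp)
  have hrr : charOf tabG2 c r' * (wsgn p.1 r : F) * (charOf tabG2 c r * (wsgn p.1 r' : F)) = 1 := by
    rw [swap_inv hr hT1 (hS r r' hr hr' wr) (hS r' r hr' hr wr'),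
      mul_inv_cancel₀ (hne _ _)]
  have hlin' : charOf tabG2 c r = charOf tabG2 c r' * charOf tabG2 c a := by
    simp only [charOf, ← Finset.prod_mul_distrib]
    refine Finset.prod_congr rfl fun i hi => ?_
    have hi' := Finset.mem_range.1 hi
    rw [← zpow_add₀ (hc i hi'), hlin i (hi'.trans_eq lG2)]
    congr 1; ring
  have hinv : charOf tabG2 c a * charOf tabG2 c (11 - a) = 1 := by
    have := (certG2.isChar_charOf hc).mul_neg a (lt_n ha')
    rwa [negG2] at this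
  have hsgn' : (wsgn p.1 a : F) * ((wsgn p.1 r : F) * (wsgn p.1 r' : F)) = 1 := by
    exact_mod_cast congrArg (Int.cast (R := F)) hsgn
  have hμ : charOf tabG2 c (11 - a) * (wsgn p.1 a : F) = charOf tabG2 c r' * charOf tabG2 c r' := by
    rw [hlin'] at hrr
    linear_combination (-(charOf tabG2 c (11 - a) * (wsgn p.1 a : F))) * hrr +
      (charOf tabG2 c r' * charOf tabG2 c r' * (wsgn p.1 a : F) * (wsgn p.1 r : F) * (wsgn p.1 r' : F)) * hinv +
      (charOf tabG2 c r' * charOf tabG2 c r') * hsgn'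
  have hs2 : Sends T (11 - a) a (charOf tabG2 c (11 - a) * (wsgn p.1 a : F))⁻¹ := by
    rw [← swap_inv ha' hT1 (hS a _ ha' (by omega) wa) (hS _ a (by omega) ha' wna)]
    exact hS _ a (by omega) ha' wna
  obtain ⟨x, hx, ⟨g', hg'⟩, hxa⟩ := split h2 ha (Cert.charOf_ne_zero hc r') hμ
    (hS a _ ha' (by omega) wa) hs2
  refine ConjZ.of_conj (mem_cZ.1 hx).1 ?_
  have hxb : Sends (x * T * x⁻¹) b b (charOf tabG2 c b * (wsgn p.1 b : F)) := by
    have hx1 : Sends x b b 1 := fun u => by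
      have hcm : Commute (phi a g') (X chevG2 b u) := by
        rcases (show (a = 7 ∧ b = 11) ∨ (a = 11 ∧ b = 7) by
          fin_cases ha <;> fin_cases hb <;> simp_all) with ⟨rfl, rfl⟩ | ⟨rfl, rfl⟩
        · rw [← phi_eU (by decide) u]; exact phi_commute g' _
        · rw [← phi_eU (by decide) u]; exact (phi_commute _ g').symm
      rw [← hg', hcm.eq, mul_inv_cancel_right, one_mul]
    have := (hx1.inv one_ne_zero).mul ((hS b b hb2 hb2 wb).mul hx1)
    simpa only [one_mul, mul_one, inv_one] using this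
  have hsq' : x * T * x⁻¹ * (x * T * x⁻¹) = 1 := by
    rw [show x * T * x⁻¹ * (x * T * x⁻¹) = x * (T * T) * x⁻¹ by group, hT1]; group
  have hne' : x * T * x⁻¹ ≠ 1 := by rwa [Ne, conj_eq_one_iff]
  have hcz : x * T * x⁻¹ ∈ cZ F := mul_mem (mul_mem hx hTc) (inv_mem hx)
  rcases (show (a = 7 ∧ b = 11) ∨ (a = 11 ∧ b = 7) by
    fin_cases ha <;> fin_cases hb <;> simp_all) with ⟨rfl, rfl⟩ | ⟨rfl, rfl⟩
  · exact settle_fix h2 hcz hsq' hne' hxa hxb
  · exact settle_fix h2 hcz hsq' hne' hxb hxa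

/-! ### The longest element -/

theorem isSquare_mul_of_not [Fintype F] (h2 : ringChar F ≠ 2) {a b : F} (ha0 : a ≠ 0) (hb0 : b ≠ 0)
    (ha : ¬IsSquare a) (hb : ¬IsSquare b) : IsSquare (a * b) := by
  rw [FiniteField.isSquare_iff h2 ha0] at ha
  rw [FiniteField.isSquare_iff h2 hb0] at hb
  rw [FiniteField.isSquare_iff h2 (mul_ne_zero ha0 hb0), mul_pow,
    (FiniteField.pow_dichotomy h2 ha0).resolve_left ha, (FiniteField.pow_dichotomy h2 hb0).resolve_left hb]
  norm_num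

theorem exists_form_value [Fintype F] (hodd : Fintype.card F % 2 = 1) {μ : F} (hμ : μ ≠ 0) :
    ∃ p r : F, -(p * p) + r * r * μ = 1 := by
  obtain ⟨p, r, e⟩ := FiniteField.exists_root_sum_quadratic (R := F)
    (f := Polynomial.C (-1) * Polynomial.X ^ 2 + Polynomial.C 0 * Polynomial.X + Polynomial.C (-1))
    (g := Polynomial.C μ * Polynomial.X ^ 2 + Polynomial.C 0 * Polynomial.X + Polynomial.C 0)
    (Polynomial.degree_quadratic (by simp)) (Polynomial.degree_quadratic hμ) hodd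
  refine ⟨p, r, ?_⟩
  simp at e
  linear_combination e

theorem w0_data : ([1, 0, 1, 0, 1, 0], [7, 11]) ∈ cells ∧
    (∀ r < 12, rword tabG2 [1, 0, 1, 0, 1, 0] r = 11 - r) ∧
    (∀ i < 2, 6 ≤ rword tabG2 ([1, 0, 1, 0, 1, 0] ++ [1, 0, 1, 0, 1, 0]) (tabG2.simple i)) ∧
    ∀ i < 2, tabG2.car i 2 = tabG2.car i 4 + tabG2.car i 3 := by
  decide +kernel

theorem move_data : ∀ q ∈ [(([] : List ℕ), 7), ([1], 8), ([1, 0], 9)],
    (∀ i ∈ q.1, i < 2) ∧ q.2 < 12 ∧ rword tabG2 q.1 q.2 = 7 ∧ wsgn q.1 q.2 = wsgn q.1 (11 - q.2) ∧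
    ∀ s < 12, ∃ r < 12, rword tabG2 q.1 r = s ∧ rword tabG2 q.1 (11 - r) = 11 - s := by
  decide +kernel

theorem refl_of_fix : ∀ p ∈ cells, rword tabG2 p.1 7 = 7 →
    p = ([], []) ∨ p = ([1, 0, 1, 0, 1], [11]) := by
  decide +kernel

/-- An element inverting the torus with a square parameter at some short root. -/
theorem settle_square (h2 : (2 : F) ≠ 0) {T : GL chevG2.Idx F} (hTm : T ∈ chevG2.monomialSubgroup F)
    (hsq : T * T = 1) (h1 : T ≠ 1) (μ : ℕ → F) (hμ0 : ∀ r < 12, μ r ≠ 0)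
    (hS : ∀ r < 12, Sends T r (11 - r) (μ r)) {q : List ℕ × ℕ}
    (hq : q ∈ [(([] : List ℕ), 7), ([1], 8), ([1, 0], 9)]) {m : F} (hm : μ q.2 = m * m) : ConjZ T := by
  obtain ⟨hv, hr, hvr, hsg, hall⟩ := move_data q hq
  obtain ⟨v, r⟩ := q
  dsimp only at hv hr hvr hsg hall hm
  have hok : WordOK tabG2 v := fun i hi => (hv i hi).trans_eq lG2.symm
  have hn := certG2.nW_mem_monomial (F := F) hok
  refine ConjZ.of_conj (x := nW chevG2 F v) (certG2.monomial_le_group hn) ?_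
  set n := nW chevG2 F v with hndef
  set S := n * T * n⁻¹ with hSdef
  have hsend : ∀ r' < 12, ∀ s, rword tabG2 v r' = s → ∀ s', rword tabG2 v (11 - r') = s' →
      Sends S s s' ((wsgn v (11 - r') : F) * (μ r' * (wsgn v r' : F)⁻¹)) := by
    intro r' hr' s es s' es'
    have a1 : Sends n r' s (wsgn v r' : F) := es ▸ sends_nW hok hr'
    have a2 : Sends n (11 - r') s' (wsgn v (11 - r') : F) := es' ▸ sends_nW hok (by omega)
    have := ((a1.inv (wsgn_ne _ _)).mul (hS r' hr')).mul a2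
    rwa [show n * (T * n⁻¹) = S by rw [hSdef]; group] at this
  have hSm : S ∈ chevG2.monomialSubgroup F := mul_mem (mul_mem hn hTm) (inv_mem hn)
  have hz : S * zI F = zI F * S := by
    refine commute_zI_of_monomial hSm fun s hs => ?_
    obtain ⟨r', hr', es, es'⟩ := hall (11 - s) (by omega)
    rw [show 11 - (11 - s) = s by omega] at es'
    refine ⟨11 - s, by omega, _, ?_, hsend r' hr' _ es _ es', ?_⟩
    · exact mul_ne_zero (wsgn_ne _ _) (mul_ne_zero (hμ0 r' hr') (inv_ne_zero (wsgn_ne _ _)))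
    · have : ∀ s < 12, 11 - s ∈ zRoots ↔ s ∈ zRoots := by decide
      exact this s hs
  have hSc : S ∈ cZ F := mem_cZ.2 ⟨certG2.monomial_le_group hSm, hz⟩
  have hSS : S * S = 1 := by
    rw [hSdef, show n * T * n⁻¹ * (n * T * n⁻¹) = n * (T * T) * n⁻¹ by group, hsq]; group
  have h74 : Sends S 7 4 (μ r) ∧ Sends S 4 7 (μ r)⁻¹ := by
    obtain ⟨r', hr', es, es'⟩ := hall 7 (by decide)
    have hrr' : r' = r := by
      have e1 := certG2.rword_reverse (w := v.reverse) (fun i hi => hok i (List.mem_reverse.1 hi)) (lt_n hr')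
      have e2 := certG2.rword_reverse (w := v.reverse) (fun i hi => hok i (List.mem_reverse.1 hi)) (lt_n hr)
      rw [List.reverse_reverse, es] at e1
      rw [List.reverse_reverse, hvr] at e2
      exact e1.symm.trans e2
    subst hrr'
    have h := hsend r' hr 7 es 4 es'
    rw [← hsg, mul_comm (μ r'), ← mul_assoc, mul_inv_cancel₀ (wsgn_ne _ _), one_mul] at h
    refine ⟨h, ?_⟩
    obtain ⟨r'', hr'', fs, fs'⟩ := hall 4 (by decide)
    have h' := hsend r'' hr'' 4 fs 7 fs'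
    rw [← swap_inv (by decide) hSS h h']
    exact h'
  obtain ⟨x, hx, -, hx7⟩ := split h2 (a := 7) (by simp) (fun e => hμ0 r hr (by rw [hm, e, mul_zero])) hm
    h74.1 h74.2
  refine ConjZ.of_conj (mem_cZ.1 hx).1 ?_
  set S' := x * S * x⁻¹ with hS'
  have hS'c : S' ∈ cZ F := mul_mem (mul_mem hx hSc) (inv_mem hx)
  have hS'2 : S' * S' = 1 := by
    rw [hS', show x * S * x⁻¹ * (x * S * x⁻¹) = x * (S * S) * x⁻¹ by group, hSS]; group
  have hS'1 : S' ≠ 1 := by rwa [hS', Ne, conj_eq_one_iff, hSdef, conj_eq_one_iff]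
  obtain ⟨p, hp, v', hv', t, ht, u, hu, e⟩ := exists_form h2 hS'c
  rw [e] at hS'2 hS'1 hx7 ⊢
  rcases refl_of_fix p hp (cell_fix hp hv' ht (gen_cell_le hp hu).1 (by simp) hx7) with rfl | rfl
  · have : u = 1 := by
      rwa [show gen chevG2 F {r | r ∈ ([] : List ℕ)} = ⊥ from Cert.gen_nil, Subgroup.mem_bot] at hu
    subst this
    simp only [nW, List.map_nil, List.prod_nil, mul_one] at hS'2 hS'1 ⊢
    exact settle_borel h2 hv' ht hS'2 hS'1
  · exact cell_conj hp hv' hu hS'2 hS'1 fun b hb hb2 hb1 =>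
      settle_refl h2 (q := (([1, 0, 1, 0, 1], [11]), 11, 7, 10, 5)) (by simp) ht hb hb2 hb1

theorem settle_long [Fintype F] (hodd : Fintype.card F % 2 = 1) (h2 : (2 : F) ≠ 0)
    {t b : GL chevG2.Idx F} (ht : t ∈ chevG2.diagonalSubgroup F) (hb : b ∈ uU F)
    (hsq : t * nW chevG2 F [1, 0, 1, 0, 1, 0] * b * (t * nW chevG2 F [1, 0, 1, 0, 1, 0] * b) = 1)
    (h1 : t * nW chevG2 F [1, 0, 1, 0, 1, 0] * b ≠ 1) :
    ConjZ (t * nW chevG2 F [1, 0, 1, 0, 1, 0] * b) := by
  obtain ⟨hp, hw, hsq2, hlin⟩ := w0_data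
  have hok := wordOK_cell hp
  obtain ⟨c, hc, -, hs⟩ := exists_char ht
  set w : List ℕ := [1, 0, 1, 0, 1, 0] with hwdef
  set T := t * nW chevG2 F w with hTdef
  let μ : ℕ → F := fun r => charOf tabG2 c (11 - r) * (wsgn w r : F)
  have hμ0 : ∀ r < 12, μ r ≠ 0 := fun r _ => mul_ne_zero (Cert.charOf_ne_zero hc _) (wsgn_ne _ _)
  have hS : ∀ r < 12, Sends T r (11 - r) (μ r) := fun r hr =>
    ((hw r hr) ▸ sends_nW hok hr).mul (hs _ (by omega))
  have hTT : T * T ∈ chevG2.diagonalSubgroup F := sq_mem_diag ht hok hsq2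
  have hb1 : b = 1 := by
    have h3 : T * b * T = b⁻¹ := eq_inv_of_mul_eq_one_left (by rw [← hsq]; group)
    have hB : T * b * T⁻¹ ∈ chevG2.borelSubgroup F := by
      rw [show T * b * T⁻¹ = T * b * T * (T * T)⁻¹ by group, h3]
      exact mul_mem (inv_mem (Subgroup.mem_sup_left (uU_le_posUnipotent hb)))
        (inv_mem (Subgroup.mem_sup_right hTT))
    have hV : T * b * T⁻¹ ∈ chevG2.negUnipotent F := by
      obtain ⟨x, y, rfl⟩ := mem_uU_iff.1 hb
      rw [show T * (X chevG2 7 x * X chevG2 11 y) * T⁻¹ =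
        (T * X chevG2 7 x * T⁻¹) * (T * X chevG2 11 y * T⁻¹) by group, hS 7 (by decide) x,
        hS 11 (by decide) y, certG2.negUnipotent_eq]
      exact mul_mem (X_mem_gen chevG2 (S := {r | r < tabG2.half})
          (show 11 - 7 < tabG2.half by rw [halfG2]; decide) _)
        (X_mem_gen chevG2 (S := {r | r < tabG2.half})
          (show 11 - 11 < tabG2.half by rw [halfG2]; decide) _)
    have := Subgroup.mem_inf.2 ⟨hB, hV⟩
    rw [certG2.borel_inf_negUnipotent, Subgroup.mem_bot, conj_eq_one_iff] at this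
    exact this
  subst hb1
  rw [mul_one] at hsq h1 ⊢
  have hTm : T ∈ chevG2.monomialSubgroup F :=
    mul_mem (Cert.diagonal_le_monomial ht) (certG2.nW_mem_monomial hok)
  have hrc : ringChar F ≠ 2 := fun e => h2 (by
    have := CharP.cast_eq_zero F (ringChar F)
    rw [e] at this; exact_mod_cast this)
  by_cases h7 : IsSquare (μ 7)
  · obtain ⟨m, hm⟩ := h7
    exact settle_square h2 hTm hsq h1 μ hμ0 hS (q := ([], 7)) (by simp) hm
  by_cases hneg : IsSquare (-1 : F)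
  · -- all signs are squares
    have hsig : ∀ r, IsSquare ((wsgn w r : F)) := fun r => by
      rcases mul_self_eq_one_iff.1 (wsgn_sq w r) with e | e <;> rw [e]
      · simp
      · push_cast; exact hneg
    by_cases h8 : IsSquare (μ 8)
    · obtain ⟨m, hm⟩ := h8
      exact settle_square h2 hTm hsq h1 μ hμ0 hS (q := ([1], 8)) (by simp) hm
    have h9 : IsSquare (μ 9) := by
      have hmul : μ 9 = μ 7 * μ 8 * ((wsgn w 9 : F) * (wsgn w 7 : F) * (wsgn w 8 : F)) := by
        have hl : charOf tabG2 c 2 = charOf tabG2 c 4 * charOf tabG2 c 3 := by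
          simp only [charOf, ← Finset.prod_mul_distrib]
          refine Finset.prod_congr rfl fun i hi => ?_
          have hi' := Finset.mem_range.1 hi
          rw [← zpow_add₀ (hc i hi'), hlin i (hi'.trans_eq lG2)]
        show charOf tabG2 c (11 - 9) * _ = charOf tabG2 c (11 - 7) * _ * (charOf tabG2 c (11 - 8) * _) * _
        rw [show 11 - 9 = 2 from rfl, show 11 - 7 = 4 from rfl, show 11 - 8 = 3 from rfl, hl]
        linear_combination (-(charOf tabG2 c 4 * charOf tabG2 c 3 * (wsgn w 9 : F))) *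
          wsgn_cast_sq (F := F) w 7 - charOf tabG2 c 4 * charOf tabG2 c 3 * (wsgn w 9 : F) *
            (wsgn w 7 : F) * (wsgn w 7 : F) * wsgn_cast_sq (F := F) w 8
      rw [hmul]
      exact (isSquare_mul_of_not hrc (hμ0 7 (by decide)) (hμ0 8 (by decide)) h7 h8).mul
        (((hsig 9).mul (hsig 7)).mul (hsig 8))
    obtain ⟨m, hm⟩ := h9
    exact settle_square h2 hTm hsq h1 μ hμ0 hS (q := ([1, 0], 9)) (by simp) hm
  by_cases h8 : IsSquare (μ 8)
  · obtain ⟨m, hm⟩ := h8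
    exact settle_square h2 hTm hsq h1 μ hμ0 hS (q := ([1], 8)) (by simp) hm
  -- conjugate to `T z`
  obtain ⟨p, r, hpr⟩ := exists_form_value hodd (hμ0 7 (by decide))
  have hs47 : Sends T 4 7 (μ 7)⁻¹ := by
    have := hS 4 (by decide)
    rwa [show 11 - 4 = 7 from rfl, swap_inv (by decide) hsq (hS 7 (by decide)) this] at this
  let g : SL(2, F) := ⟨!![p, r; -(r * μ 7), -p], by
    rw [Matrix.det_fin_two_of]; linear_combination hpr⟩
  have hgi : (g⁻¹).1 = !![-p, -r; r * μ 7, p] := by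
    rw [Matrix.SpecialLinearGroup.coe_inv, show g.1 = !![p, r; -(r * μ 7), -p] from rfl,
      Matrix.adjugate_fin_two_of]
    simp
  have hsig : sig (hμ0 7 (by decide)) g⁻¹ = -g⁻¹ := Subtype.ext (by
    rw [sig_val, Matrix.SpecialLinearGroup.coe_neg, hgi]
    have := hμ0 7 (by decide)
    ext i j
    fin_cases i <;> fin_cases j <;> simp <;> field_simp)
  refine ConjZ.of_conj (phi_mem_group (a := 7) (by decide) g) ?_
  have hTz : T * zI F = zI F * T :=
    (mem_cZ.1 (mul_mem (diag_le_cZ ht) (nW_mem_cZ hp))).2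
  have e : phi 7 g * T * (phi 7 g)⁻¹ = T * zI F := by
    rw [hTz, ← map_inv, show phi 7 g * T * phi 7 g⁻¹ = phi 7 g * (T * phi 7 g⁻¹ * T⁻¹) * T by group,
      conj_phi (by decide) (hμ0 7 (by decide)) (hS 7 (by decide)) hs47, hsig,
      ← map_mul, mul_neg, mul_inv_cancel, phi_neg_one (by simp)]
  rw [e]
  have hmono : T * zI F ∈ chevG2.monomialSubgroup F := mul_mem hTm (Cert.diagonal_le_monomial zI_mem)
  have hsq' : T * zI F * (T * zI F) = 1 := by
    rw [show T * zI F * (T * zI F) = T * (zI F * T) * zI F by group, ← hTz,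
      show T * (T * zI F) * zI F = (T * T) * (zI F * zI F) by group, hsq, zI_mul_self, one_mul]
  have hne : T * zI F ≠ 1 := by
    rw [← e, Ne, conj_eq_one_iff]; exact h1
  have hS' : ∀ r < 12, Sends (T * zI F) r (11 - r) (μ r * if r ∈ zRoots then 1 else -1) := fun r hr =>
    (sends_zI hr).mul (hS r hr)
  have hμ' : ∀ r < 12, μ r * (if r ∈ zRoots then (1 : F) else -1) ≠ 0 := fun r hr =>
    mul_ne_zero (hμ0 r hr) (by split_ifs <;> norm_num)
  obtain ⟨m, hm⟩ := isSquare_mul_of_not hrc (hμ0 8 (by decide)) (neg_ne_zero.2 one_ne_zero) h8 hneg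
  exact settle_square h2 hmono hsq' hne _ hμ' hS' (q := ([1], 8)) (by simp)
    (m := m) (by show μ 8 * _ = _; rw [if_neg (by decide)]; exact hm)

/-- Involutions of the centralizer. -/
theorem settle [Fintype F] (hodd : Fintype.card F % 2 = 1) (h2 : (2 : F) ≠ 0) {s : GL chevG2.Idx F}
    (hs : s ∈ cZ F) (hsq : s * s = 1) (h1 : s ≠ 1) : ConjZ s := by
  obtain ⟨p, hp, v, hv, t, ht, u, hu, rfl⟩ := exists_form h2 hs
  refine cell_conj hp hv hu hsq h1 fun b hb hb2 hb1 => ?_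
  simp only [cells, List.mem_cons, List.not_mem_nil, or_false] at hp
  rcases hp with rfl | rfl | rfl | rfl
  · have hn : nW chevG2 F ([] : List ℕ) = 1 := by simp [nW]
    simp only [hn, mul_one] at hb2 hb1 ⊢
    refine ConjZ.of_conj (x := b) (certG2.posUnipotent_le_group (uU_le_posUnipotent hb)) ?_
    have e : b * (t * b) * b⁻¹ = b * t := by group
    rw [e]
    refine settle_borel h2 hb ht ?_ (by rw [← e, Ne, conj_eq_one_iff]; exact hb1)
    rw [← e, show b * (t * b) * b⁻¹ * (b * (t * b) * b⁻¹) = b * (t * b * (t * b)) * b⁻¹ by group, hb2]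
    group
  · exact settle_refl h2 (q := (([0], [7]), 7, 11, 9, 8)) (by simp) ht hb hb2 hb1
  · exact settle_refl h2 (q := (([1, 0, 1, 0, 1], [11]), 11, 7, 10, 5)) (by simp) ht hb hb2 hb1
  · exact settle_long hodd h2 ht hb hb2 hb1

/-- The index of the centralizer. -/
theorem odd_index [Fintype F] (hodd : Fintype.card F % 2 = 1) (h2 : (2 : F) ≠ 0) :
    ¬ 2 ∣ ((cZ F).subgroupOf (chevG2.group F)).index := by
  set q := Fintype.card F
  have hle : cZ F ≤ chevG2.group F := inf_le_left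
  have hmul := Subgroup.card_mul_index ((cZ F).subgroupOf (chevG2.group F))
  rw [Nat.card_congr (Subgroup.subgroupOfEquivOfLe hle).toEquiv, card_cZ h2, card_groupG2] at hmul
  have hq : 1 < q := Fintype.one_lt_card
  have he : ((cZ F).subgroupOf (chevG2.group F)).index = q ^ 4 * (q ^ 4 + q ^ 2 + 1) := by
    refine Nat.eq_of_mul_eq_mul_left (n := q ^ 2 * (q ^ 2 - 1) ^ 2)
      (Nat.mul_pos (by positivity) (pow_pos (Nat.sub_pos_of_lt (Nat.one_lt_pow (by norm_num) hq)) _)) ?_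
    rw [hmul]
    obtain ⟨k, hk⟩ := Nat.exists_eq_add_of_le (Nat.one_le_pow 2 q hq.le)
    rw [show q ^ 6 = (q ^ 2) ^ 3 by ring, show q ^ 4 = (q ^ 2) ^ 2 by ring, hk,
      show 1 + k - 1 = k by omega,
      show (1 + k) ^ 3 - 1 = k * ((1 + k) ^ 2 + (1 + k) + 1) from Nat.sub_eq_of_eq_add (by ring)]
    ring
  rw [he, Nat.two_dvd_ne_zero]
  simp [Nat.mul_mod, Nat.pow_mod, Nat.add_mod, hodd]

/-- Every involution is conjugate to `z`. -/
theorem conj_zI [Fintype F] (hodd : Fintype.card F % 2 = 1) (h2 : (2 : F) ≠ 0)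
    (s : ↥(chevG2.group F)) (hs : orderOf s = 2) : IsConj s ⟨zI F, zI_mem_group⟩ := by
  have := Fact.mk Nat.prime_two
  obtain ⟨g, hg⟩ := GTorus.exists_conj_mem (r := 2) _ (odd_index hodd h2)
    (hs ▸ pow_orderOf_eq_one s)
  rw [Subgroup.mem_subgroupOf] at hg
  have hsq : ((g * s * g⁻¹ : ↥(chevG2.group F)) : GL chevG2.Idx F) * (g * s * g⁻¹ : ↥(chevG2.group F)) = 1 := by
    rw [← Subgroup.coe_mul, show g * s * g⁻¹ * (g * s * g⁻¹) = g * (s * s) * g⁻¹ by group, ← pow_two,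
      (orderOf_dvd_iff_pow_eq_one.1 (dvd_of_eq hs) : s ^ 2 = 1)]
    simp
  have hne : ((g * s * g⁻¹ : ↥(chevG2.group F)) : GL chevG2.Idx F) ≠ 1 := fun h => by
    rw [OneMemClass.coe_eq_one, conj_eq_one_iff] at h
    rw [h, orderOf_one] at hs
    exact absurd hs (by norm_num)
  obtain ⟨x, hx, e⟩ := settle hodd h2 hg hsq hne
  exact (isConj_iff.2 ⟨g, rfl⟩).trans (isConj_iff.2 ⟨⟨x, hx⟩, Subtype.ext e⟩)

end CfsgLib.Chev.G2Invol
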