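import Cfsg.Agent.Lib.Chev.G2Invol.Class

/-!
The centralizer of `z` inside the group `G₂(F)`.
-/

set_option autoImplicit false
set_option maxRecDepth 100000

namespace CfsgLib.Chev.G2Invol

open Cfsg.Lie Matrix
open scoped MatrixGroups

variable {F : Type*} [Field F]

theorem two_ne_zero_of_odd [Fintype F] (hodd : Fintype.card F % 2 = 1) : (2 : F) ≠ 0 :=
  Ring.two_ne_zero fun e => by
    have := FiniteField.even_card_of_char_two e
    omega

/-- `z` in the group. -/
noncomputable def zG (F : Type*) [Field F] : ↥(chevG2.group F) := ⟨zI F, zI_mem_group⟩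

/-- The homomorphism of a root into the group. -/
noncomputable def phiG {a : ℕ} (ha : a < 12) : SL(2, F) →* ↥(chevG2.group F) :=
  (phi a).codRestrict _ (phi_mem_group ha)

theorem coe_phiG {a : ℕ} (ha : a < 12) (g : SL(2, F)) :
    ((phiG ha g : ↥(chevG2.group F)) : GL chevG2.Idx F) = phi a g := rfl

theorem phiG_injective (h2 : (2 : F) ≠ 0) {a : ℕ} (ha : a ∈ [7, 11]) :
    Function.Injective (phiG (F := F) (pair_lt ha)) := fun g k h =>
  phi_injective h2 ha (congrArg Subtype.val h)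

theorem centralizer_zG :
    Subgroup.centralizer {zG F} = (cZ F).subgroupOf (chevG2.group F) := by
  ext x
  rw [Subgroup.mem_centralizer_singleton_iff, Subgroup.mem_subgroupOf, mem_cZ]
  exact ⟨fun h => ⟨x.2, congrArg Subtype.val h⟩, fun h => Subtype.ext h.2⟩

theorem main_zG [Fintype F] (h2 : (2 : F) ≠ 0) :
    Nat.card (Subgroup.centralizer {zG F}) = Fintype.card F ^ 2 * (Fintype.card F ^ 2 - 1) ^ 2 ∧
      ∃ L₁ L₂ : Subgroup ↥(chevG2.group F), Nonempty (L₁ ≃* SL(2, F)) ∧
        Nonempty (L₂ ≃* SL(2, F)) ∧ (∀ x ∈ L₁, ∀ y ∈ L₂, x * y = y * x) ∧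
        L₁ ⊓ L₂ = Subgroup.zpowers (zG F) ∧ L₁ ⊔ L₂ ≤ Subgroup.centralizer {zG F} ∧
        (L₁ ⊔ L₂).relIndex (Subgroup.centralizer {zG F}) = 2 := by
  have h7 : (7 : ℕ) ∈ [7, 11] := by simp
  have h11 : (11 : ℕ) ∈ [7, 11] := by simp
  have hcard : Nat.card (Subgroup.centralizer {zG F}) =
      Fintype.card F ^ 2 * (Fintype.card F ^ 2 - 1) ^ 2 := by
    have hle' : cZ F ≤ chevG2.group F := inf_le_left
    rw [centralizer_zG, Nat.card_congr (Subgroup.subgroupOfEquivOfLe hle').toEquiv, card_cZ h2]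
  let f := phiG (F := F) (pair_lt h7)
  let g := phiG (F := F) (pair_lt h11)
  have hfg : ∀ x y, Commute (f x) (g y) := fun x y => Subtype.ext (phi_commute x y).eq
  have hle : ∀ {a : ℕ} (ha : a ∈ [7, 11]),
      (phiG (F := F) (pair_lt ha)).range ≤ Subgroup.centralizer {zG F} := by
    rintro a ha _ ⟨x, rfl⟩
    rw [centralizer_zG, Subgroup.mem_subgroupOf]
    exact phi_mem_cZ ha x
  refine ⟨hcard, f.range, g.range, ⟨(MonoidHom.ofInjective (phiG_injective h2 h7)).symm⟩,
    ⟨(MonoidHom.ofInjective (phiG_injective h2 h11)).symm⟩, ?_, ?_, sup_le (hle h7) (hle h11), ?_⟩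
  · rintro _ ⟨x, rfl⟩ _ ⟨y, rfl⟩
    exact (hfg x y).eq
  · refine le_antisymm ?_ ?_
    · rintro w ⟨⟨x, rfl⟩, y, hy⟩
      rcases phi_eq_phi h2 (congrArg Subtype.val hy).symm with ⟨rfl, -⟩ | ⟨rfl, -⟩
      · rw [map_one]; exact one_mem _
      · rw [show f (-1) = zG F from Subtype.ext (phi_neg_one h7)]
        exact Subgroup.mem_zpowers _
    · rw [Subgroup.zpowers_le]
      exact ⟨⟨-1, Subtype.ext (phi_neg_one h7)⟩, ⟨-1, Subtype.ext (phi_neg_one h11)⟩⟩
  · set J := f.range ⊔ g.range with hJ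
    have hJr : J = (f.noncommCoprod g hfg).range := (MonoidHom.noncommCoprod_range _ _ _).symm
    have hker : Nat.card (f.noncommCoprod g hfg).ker = 2 := by
      refine (Nat.card_congr (Equiv.subtypeEquivRight fun x => ?_)).trans (card_ker_psi (F := F) h2)
      rw [MonoidHom.mem_ker, MonoidHom.mem_ker]
      exact ⟨fun h => congrArg Subtype.val h, fun h => Subtype.ext h⟩
    have hJ2 : Nat.card J * 2 = (Fintype.card F * (Fintype.card F ^ 2 - 1)) ^ 2 := by
      have h1 := Subgroup.card_mul_index (f.noncommCoprod g hfg).ker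
      rw [hker, Subgroup.index_ker, Nat.card_prod, CfsgLib.SL2.card_SL_two', Nat.card_eq_fintype_card (α := F),
        mul_comm (Fintype.card F - 1), ← Nat.sq_sub_sq, one_pow] at h1
      rw [hJr, mul_comm _ 2, h1, ← pow_two]
    have h := Subgroup.card_mul_index (J.subgroupOf (Subgroup.centralizer {zG F}))
    rw [Nat.card_congr (Subgroup.subgroupOfEquivOfLe (sup_le (hle h7) (hle h11) :
      J ≤ Subgroup.centralizer {zG F})).toEquiv, hcard] at h
    refine Nat.eq_of_mul_eq_mul_left (n := Nat.card J) Nat.card_pos (h.trans ?_)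
    rw [hJ2]; ring

end CfsgLib.Chev.G2Invol
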