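import Cfsg.Agent.Lib.Chev.G2Invol.Cent
import Cfsg.Agent.Lib.Chev.SL2
import Cfsg.Agent.Lib.SL2.Facts
import Cfsg.Agent.Lib.Classical.Transvection

/-!
The two commuting `SL₂(F)` on the roots `±7` and `±11` of `G₂`.
-/

set_option autoImplicit false
set_option maxRecDepth 100000

namespace CfsgLib.Chev.G2Invol

open Cfsg.Lie Matrix
open scoped MatrixGroups

variable {F : Type*} [Field F]

/-- An upper transvection. -/
noncomputable def eU (t : F) : SL(2, F) := SL2Pair.E t

/-- A lower transvection. -/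
noncomputable def eL (t : F) : SL(2, F) := SL2Pair.L t

theorem eU_val (t : F) : (eU t).1 = !![1, t; 0, 1] := rfl

theorem eL_val (t : F) : (eL t).1 = !![1, 0; t, 1] := rfl

/-- Two homomorphisms out of `SL₂` agreeing on the transvections are equal. -/
theorem hom_ext {G : Type*} [Group G] {f g : SL(2, F) →* G} (h1 : ∀ t, f (eU t) = g (eU t))
    (h2 : ∀ t, f (eL t) = g (eL t)) : f = g := by
  refine MonoidHom.eq_of_eqOn_top fun x _ => ?_
  have : f.eqLocus g = ⊤ := by
    refine CfsgLib.Classical.eq_top_of_transvection_mem _ fun i j hij c => ?_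
    match i, j, hij with
    | 0, 0, hij => exact absurd rfl hij
    | 0, 1, hij =>
      rw [show Matrix.SpecialLinearGroup.transvection hij c = eU c from Subtype.ext (by
        show Matrix.transvection (0 : Fin 2) 1 c = _
        rw [eU_val]; ext a b; fin_cases a <;> fin_cases b <;> simp [Matrix.transvection])]
      exact h1 c
    | 1, 0, hij =>
      rw [show Matrix.SpecialLinearGroup.transvection hij c = eL c from Subtype.ext (by
        show Matrix.transvection (1 : Fin 2) 0 c = _
        rw [eL_val]; ext a b; fin_cases a <;> fin_cases b <;> simp [Matrix.transvection])]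
      exact h2 c
    | 1, 1, hij => exact absurd rfl hij
  have hx : x ∈ f.eqLocus g := this ▸ Subgroup.mem_top x
  exact hx

/-- The homomorphism of a root. -/
noncomputable def phi (a : ℕ) : SL(2, F) →* GL chevG2.Idx F :=
  if ha : a < tabG2.n then (certG2.exists_sl2_hom (F := F) ha).choose else 1

theorem phi_spec {a : ℕ} (ha : a < 12) :
    (∀ g, phi (F := F) a g ∈ chevG2.rootSubgroup F a ⊔ chevG2.rootSubgroup F (11 - a)) ∧
    (∀ (g : SL(2, F)) (t : F), g.1 = !![1, t; 0, 1] → phi a g = X chevG2 a t) ∧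
    (∀ (g : SL(2, F)) (t : F), g.1 = !![1, 0; t, 1] → phi a g = X chevG2 (11 - a) t) := by
  rw [phi, dif_pos (ha.trans_eq nG2.symm), ← negG2]
  exact (certG2.exists_sl2_hom (F := F) (ha.trans_eq nG2.symm)).choose_spec

theorem phi_eU {a : ℕ} (ha : a < 12) (t : F) : phi a (eU t) = X chevG2 a t :=
  (phi_spec ha).2.1 _ t (eU_val t)

theorem phi_eL {a : ℕ} (ha : a < 12) (t : F) : phi a (eL t) = X chevG2 (11 - a) t :=
  (phi_spec ha).2.2 _ t (eL_val t)

theorem pair_lt {a : ℕ} (ha : a ∈ [7, 11]) : a < 12 := by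
  fin_cases ha <;> decide

theorem phi_mem_group {a : ℕ} (ha : a < 12) (g : SL(2, F)) : phi a g ∈ chevG2.group F := by
  refine (sup_le ?_ ?_ : chevG2.rootSubgroup F a ⊔ chevG2.rootSubgroup F (11 - a) ≤ _)
    ((phi_spec ha).1 g) <;>
  · rw [certG2.rootSubgroup_eq]
    refine certG2.gen_le_group fun r hr => ?_
    rw [Set.mem_singleton_iff] at hr
    rw [hr, nG2]; omega

theorem pairing_pair : ∀ a ∈ [7, 11], ∀ r < 12,
    (r ∈ zRoots → Even (tabG2.pairing a r)) ∧ (r ∉ zRoots → Odd (tabG2.pairing a r)) := by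
  decide +kernel

theorem eU_zero : eU (0 : F) = 1 := Subtype.ext (by rw [eU_val]; ext i j; fin_cases i <;> fin_cases j <;> rfl)

theorem neg_one_eq : (-1 : SL(2, F)) =
    eU (-1) * eL 1 * eU (-1) * (eU (-1) * eL 1 * eU (-1)) := by
  refine Subtype.ext ?_
  simp only [Matrix.SpecialLinearGroup.coe_neg, Matrix.SpecialLinearGroup.coe_one,
    Matrix.SpecialLinearGroup.coe_mul, eU_val, eL_val]
  ext i j
  fin_cases i <;> fin_cases j <;> simp [Matrix.mul_apply, Fin.sum_univ_two]

theorem phi_neg_one {a : ℕ} (ha : a ∈ [7, 11]) : phi (F := F) a (-1) = zI F := by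
  have ha' := pair_lt ha
  have e : phi (F := F) a (-1) = hU chevG2 a (-1) := by
    rw [neg_one_eq, map_mul, map_mul, map_mul, phi_eU ha', phi_eL ha', hU, nU,
      certG2.agrees.neg_eq (ha'.trans_eq nG2.symm), negG2]
    simp
  have hne : (-1 : F) ≠ 0 := neg_ne_zero.2 one_ne_zero
  rw [e]
  refine diag_ext (certG2.hU_mem (ha'.trans_eq nG2.symm) hne) zI_mem fun r hr =>
    ⟨if r ∈ zRoots then 1 else -1, fun u => ?_, sends_zI hr⟩
  rw [mul_inv_eq_iff_eq_mul]
  refine Units.ext ?_
  rw [Units.val_mul, Units.val_mul, certG2.coe_X, certG2.coe_X,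
    certG2.hU_root (ha'.trans_eq nG2.symm) hne,
    certG2.torus_mul_x (certG2.isChar_charOf fun i _ => zpow_ne_zero _ hne) (hr.trans_eq nG2.symm),
    Cert.charOf_cor a hne]
  congr 2
  split_ifs with h
  · rw [((pairing_pair a ha r hr).1 h).neg_one_zpow]
  · rw [((pairing_pair a ha r hr).2 h).neg_one_zpow]

theorem zI_ne_one (h2 : (2 : F) ≠ 0) : zI F ≠ 1 := by
  intro e
  have h1 := sends_zI (F := F) (show 6 < 12 by decide)
  rw [e, if_neg (by decide)] at h1
  exact h2 (by linear_combination (sends_one 6).unique (by decide) h1)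

theorem phi_injective (h2 : (2 : F) ≠ 0) {a : ℕ} (ha : a ∈ [7, 11]) :
    Function.Injective (phi (F := F) a) := by
  have ha' := pair_lt ha
  have han : a < tabG2.n := ha'.trans_eq nG2.symm
  refine (injective_iff_map_eq_one _).2 fun g hg => ?_
  by_cases hc : g.1 1 0 = 0
  · have hdet := SL2Pair.det_eq g
    rw [hc, mul_zero, sub_zero] at hdet
    have e1 : g * eU 1 = eU (g.1 0 0 ^ 2) * g := by
      refine Subtype.ext ?_
      simp only [Matrix.SpecialLinearGroup.coe_mul, eU_val]
      ext i j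
      fin_cases i <;> fin_cases j <;> simp [Matrix.mul_apply, Fin.sum_univ_two, hc]
      linear_combination (-g.1 0 0) * hdet
    have e2 := congrArg (phi a) e1
    rw [map_mul, map_mul, hg, one_mul, mul_one, phi_eU ha', phi_eU ha'] at e2
    have e3 : g.1 0 0 * g.1 0 0 = 1 := by
      have h3 : X chevG2 a (g.1 0 0 ^ 2 + -1) = 1 := by
        rw [← certG2.X_add han, ← e2, ← certG2.X_inv han, mul_inv_cancel]
      rw [certG2.X_eq_one_iff han] at h3
      linear_combination h3
    rcases mul_self_eq_one_iff.1 e3 with h | h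
    · have hd : g.1 1 1 = 1 := by rw [h, one_mul] at hdet; exact hdet
      have eg : g = eU (g.1 0 1) := Subtype.ext (by
        rw [eU_val]; ext i j; fin_cases i <;> fin_cases j <;> simp [h, hc, hd])
      rw [eg, phi_eU ha', certG2.X_eq_one_iff han] at hg
      rw [eg, hg, eU_zero]
    · exfalso
      have hd : g.1 1 1 = -1 := by rw [h] at hdet; linear_combination -hdet
      have eg : g = -1 * eU (-(g.1 0 1)) := Subtype.ext (by
        simp only [Matrix.SpecialLinearGroup.coe_mul, Matrix.SpecialLinearGroup.coe_neg,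
          Matrix.SpecialLinearGroup.coe_one, eU_val]
        ext i j; fin_cases i <;> fin_cases j <;> simp [Matrix.mul_apply, Fin.sum_univ_two, h, hc, hd])
      rw [eg, map_mul, phi_neg_one ha, phi_eU ha', mul_eq_one_iff_eq_inv] at hg
      have hU : zI F ∈ chevG2.posUnipotent F ⊓ chevG2.diagonalSubgroup F := by
        refine Subgroup.mem_inf.2 ⟨?_, zI_mem⟩
        rw [hg]
        refine inv_mem (uU_le_posUnipotent (X_mem_gen chevG2 ?_ _))
        exact ha
      rw [certG2.posUnipotent_inf_diagonal, Subgroup.mem_bot] at hU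
      exact zI_ne_one h2 hU
  · exfalso
    set c := g.1 1 0 with hcdef
    set y := -g.1 0 0 / c with hy
    have hdet := SL2Pair.det_eq g
    have ha0 : g.1 0 0 + y * c = 0 := by rw [hy]; field_simp; ring
    have e1 : eU y * g * eU 1 = eL (-(c * c)) * (eU y * g) := by
      refine Subtype.ext ?_
      simp only [Matrix.SpecialLinearGroup.coe_mul, eU_val, eL_val]
      rw [Matrix.eta_fin_two g.1, ← hcdef, Matrix.mul_fin_two, Matrix.mul_fin_two, Matrix.mul_fin_two]
      ext i j
      fin_cases i <;> fin_cases j <;> simp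
      · exact ha0
      · exact Or.inr ha0
      · linear_combination c * g.1 1 1 * ha0 - c * hdet
    have e2 := congrArg (phi a) e1
    rw [map_mul, map_mul, map_mul, map_mul, hg, mul_one, phi_eU ha', phi_eU ha',
      phi_eL ha', certG2.X_add han, add_comm, ← certG2.X_add han] at e2
    exact (show a ≠ 11 - a by omega)
      (certG2.root_eq_of_X_eq han (by rw [nG2]; omega) one_ne_zero (mul_right_cancel e2))

theorem commTerms_pairs : ∀ r ∈ [7, 4], ∀ s ∈ [11, 0], tabG2.commTerms r s = [] ∧ s ≠ r ∧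
    s ≠ tabG2.neg r ∧ r < tabG2.n ∧ s < tabG2.n := by decide +kernel

theorem commute_X_pairs {r s : ℕ} (hr : r ∈ [7, 4]) (hs : s ∈ [11, 0]) (x y : F) :
    Commute (X chevG2 r x) (X chevG2 s y) := by
  obtain ⟨h0, hne, hneg, hr', hs'⟩ := commTerms_pairs r hr s hs
  have h1 := certG2.X_conj (F := F) hr' hs' hne hneg x y
  rw [h0, List.map_nil, List.prod_nil, mul_one, ← certG2.X_inv hr'] at h1
  show _ = _
  conv_lhs => rw [← h1]
  group

/-- An element commuting with both root groups commutes with the image. -/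
theorem commute_phi_of {a : ℕ} (ha : a < 12) {y : GL chevG2.Idx F}
    (h1 : ∀ t, Commute y (X chevG2 a t)) (h2 : ∀ t, Commute y (X chevG2 (11 - a) t)) (g : SL(2, F)) :
    Commute y (phi a g) := by
  have : (MulAut.conj y).toMonoidHom.comp (phi a) = phi a := by
    refine hom_ext (fun t => ?_) (fun t => ?_)
    · show y * phi a (eU t) * y⁻¹ = _
      rw [phi_eU ha, (h1 t).eq, mul_inv_cancel_right]
    · show y * phi a (eL t) * y⁻¹ = _
      rw [phi_eL ha, (h2 t).eq, mul_inv_cancel_right]
  have e : y * phi a g * y⁻¹ = phi a g := DFunLike.congr_fun this g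
  rw [mul_inv_eq_iff_eq_mul] at e
  exact e

theorem phi_commute (g k : SL(2, F)) : Commute (phi 7 g) (phi 11 k) :=
  commute_phi_of (by decide)
    (fun t => (commute_phi_of (by decide)
      (fun u => ((commute_X_pairs (r := 7) (s := 11) (by simp) (by simp) u t).symm))
      (fun u => ((commute_X_pairs (r := 4) (s := 11) (by simp) (by simp) u t).symm)) g).symm)
    (fun t => (commute_phi_of (by decide)
      (fun u => ((commute_X_pairs (r := 7) (s := 0) (by simp) (by simp) u t).symm))
      (fun u => ((commute_X_pairs (r := 4) (s := 0) (by simp) (by simp) u t).symm)) g).symm) k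

theorem phi_mem_cZ {a : ℕ} (ha : a ∈ [7, 11]) (g : SL(2, F)) : phi a g ∈ cZ F := by
  have hb : a ∈ zRoots ∧ 11 - a ∈ zRoots := by fin_cases ha <;> decide
  exact mem_cZ.2 ⟨phi_mem_group (pair_lt ha) g,
    (commute_phi_of (pair_lt ha) (fun t => zI_commute_X hb.1 t) (fun t => zI_commute_X hb.2 t) g).eq.symm⟩

theorem central_eq {g : SL(2, F)} (h1 : g * eU 1 = eU 1 * g) (h2 : g * eL 1 = eL 1 * g) :
    g = 1 ∨ g = -1 := by
  have e00 := congrArg (fun M : SL(2, F) => M.1 0 0) h1
  have e01 := congrArg (fun M : SL(2, F) => M.1 0 1) h1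
  have f00 := congrArg (fun M : SL(2, F) => M.1 0 0) h2
  simp [Matrix.mul_apply, Fin.sum_univ_two, eU_val, eL_val] at e00 e01 f00
  have hc : g.1 1 0 = 0 := by linear_combination e00
  have hb : g.1 0 1 = 0 := by linear_combination f00
  have had : g.1 0 0 = g.1 1 1 := by linear_combination e01
  have hdet := SL2Pair.det_eq g
  rw [hc, hb, mul_zero, sub_zero, ← had] at hdet
  rcases mul_self_eq_one_iff.1 hdet with h | h
  · exact Or.inl (Subtype.ext (by ext i j; fin_cases i <;> fin_cases j <;> simp [h, hb, hc, ← had]))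
  · exact Or.inr (Subtype.ext (by ext i j; fin_cases i <;> fin_cases j <;> simp [h, hb, hc, ← had]))

theorem neg_one_ne_one (h2 : (2 : F) ≠ 0) : (-1 : SL(2, F)) ≠ 1 := by
  intro h
  have h' := congrArg (fun M : SL(2, F) => M.1 0 0) h
  simp at h'
  exact h2 (by linear_combination -h')

theorem phi_eq_phi (h2 : (2 : F) ≠ 0) {g k : SL(2, F)} (h : phi 7 g = phi 11 k) :
    (g = 1 ∧ k = 1) ∨ (g = -1 ∧ k = -1) := by
  have hg : ∀ x : SL(2, F), g * x = x * g := fun x => phi_injective h2 (a := 7) (by simp) (by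
    rw [map_mul, map_mul, h]; exact (phi_commute x k).eq.symm)
  have hinj := phi_injective (F := F) h2 (a := 11) (by simp)
  rcases central_eq (hg _) (hg _) with rfl | rfl
  · exact Or.inl ⟨rfl, hinj (by rw [← h, map_one, map_one])⟩
  · exact Or.inr ⟨rfl, hinj (by rw [← h, phi_neg_one (by simp), phi_neg_one (by simp)])⟩

/-- The product of the two `SL₂`. -/
noncomputable def psi : SL(2, F) × SL(2, F) →* GL chevG2.Idx F :=
  (phi 7).noncommCoprod (phi 11) phi_commute

theorem psi_apply (x : SL(2, F) × SL(2, F)) : psi x = phi 7 x.1 * phi 11 x.2 := rfl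

theorem range_psi : (psi (F := F)).range = (phi (F := F) 7).range ⊔ (phi 11).range :=
  MonoidHom.noncommCoprod_range _ _ _

theorem card_ker_psi (h2 : (2 : F) ≠ 0) : Nat.card (psi (F := F)).ker = 2 := by
  have e : ((psi (F := F)).ker : Set (SL(2, F) × SL(2, F))) = {(1, 1), (-1, -1)} := by
    ext ⟨g, k⟩
    simp only [SetLike.mem_coe, MonoidHom.mem_ker, psi_apply, Set.mem_insert_iff,
      Set.mem_singleton_iff, Prod.mk.injEq]
    constructor
    · intro h
      have h' : phi 7 g = phi 11 k⁻¹ := by rw [map_inv]; exact eq_inv_of_mul_eq_one_left h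
      rcases phi_eq_phi h2 h' with ⟨rfl, e⟩ | ⟨rfl, e⟩
      · exact Or.inl ⟨rfl, inv_eq_one.1 e⟩
      · refine Or.inr ⟨rfl, ?_⟩
        rw [inv_eq_iff_eq_inv] at e
        rw [e]
        exact inv_eq_of_mul_eq_one_right (by simp)
    · rintro (⟨rfl, rfl⟩ | ⟨rfl, rfl⟩)
      · simp
      · rw [phi_neg_one (by simp), phi_neg_one (by simp), zI_mul_self]
  show Nat.card ↥((psi (F := F)).ker : Set (SL(2, F) × SL(2, F))) = 2
  rw [e, Nat.card_coe_set_eq, Set.ncard_pair]
  intro h
  exact neg_one_ne_one h2 (Prod.ext_iff.1 h).1.symm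

end CfsgLib.Chev.G2Invol
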